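import Groth.Agent.H82.Borel.Solvable

/-!
# A torus-stable group containing a unipotent point contains a root element
-/

set_option autoImplicit false
set_option linter.style.haveILetI false
set_option linter.unusedSectionVars false
universe u

open CategoryTheory MonoidalCategory CartesianMonoidalCategory MonObj GrpObj AlgebraicGeometry
open Groth.Agent.Lib.RedPts Groth.Agent.H82.BigCell Groth.Agent.H82.Contract
open Groth.Agent.H82.RankOne (P P_eq P_zero P_comp P_add P_neg)

namespace Groth.Agent.H82.Borel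

theorem coeff_trunc {R : Type*} [CommRing R] {d k : ℕ} (hdk : d < k) {x : R}
    (h : Ideal.Quotient.mk (Ideal.span {(Polynomial.X : Polynomial R) ^ k})
      (Polynomial.X ^ d * Polynomial.C x) = 0) : x = 0 := by
  rw [Ideal.Quotient.eq_zero_iff_mem, Ideal.mem_span_singleton, Polynomial.X_pow_dvd_iff] at h
  simpa using h d hdk

theorem eq_of_trunc {R : Type*} [CommRing R] {d k : ℕ} (hdk : d < k) {x y : R}
    (h : Ideal.Quotient.mk (Ideal.span {(Polynomial.X : Polynomial R) ^ k}) (Polynomial.X ^ d * Polynomial.C x) =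
      Ideal.Quotient.mk (Ideal.span {(Polynomial.X : Polynomial R) ^ k}) (Polynomial.X ^ d * Polynomial.C y)) :
    x = y := by
  refine sub_eq_zero.1 (coeff_trunc hdk ?_)
  rw [map_sub, mul_sub, map_sub, h, sub_self]

theorem trunc_mul_zero {R : Type*} [CommRing R] {a c k : ℕ} (hk : k ≤ a + c) (x y : R) :
    Ideal.Quotient.mk (Ideal.span {(Polynomial.X : Polynomial R) ^ k})
      (Polynomial.X ^ a * Polynomial.C x * (Polynomial.X ^ c * Polynomial.C y)) = 0 := by
  rw [Ideal.Quotient.eq_zero_iff_mem, Ideal.mem_span_singleton, _root_.mul_mul_mul_comm, ← pow_add]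
  exact Dvd.dvd.mul_right (pow_dvd_pow _ hk) _

variable {S : Scheme.{u}} {G : Over S} [GrpObj G] {D : Red.SplitRed G}

theorem conjPt_mul (c : Red.Gm S ⟶ G) {Y : Over S} [IsAffine Y.left] (a a' : Y ⟶ G) :
    conjPt c (a * a') = conjPt c a * conjPt c a' := by
  rw [conjPt, conjPt, conjPt, MonObj.comp_mul]
  group

theorem prodPts_mul_prodPts {X : Over S} : ∀ {n : ℕ} {a a' : Fin n → (X ⟶ G)},
    (∀ i j, a' i * a j = a j * a' i) → prodPts n (fun k => a k * a' k) = prodPts n a * prodPts n a'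
  | 0, a, a', _ => (_root_.one_mul _).symm
  | n + 1, a, a', h => by
    have hc : a' 0 * prodPts n (fun k => a k.succ) = prodPts n (fun k => a k.succ) * a' 0 :=
      mul_prodPts (a' 0) fun k => h 0 k.succ
    rw [prodPts_succ, prodPts_succ a, prodPts_succ a', prodPts_mul_prodPts fun i j => h i.succ j.succ]
    calc a 0 * a' 0 * (prodPts n (fun k => a k.succ) * prodPts n fun k => a' k.succ)
        = a 0 * (a' 0 * prodPts n (fun k => a k.succ)) * prodPts n fun k => a' k.succ := by group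
      _ = a 0 * (prodPts n (fun k => a k.succ) * a' 0) * prodPts n fun k => a' k.succ := by rw [hc]
      _ = _ := by group

variable (b : D.P.Base) {l : D.M →+ ℤ} (hlp : ∀ a ∈ RedSub.posRoots D.P b, 0 < l (D.P.root a))
  (hln : ∀ a ∈ RedSub.negRoots D.P b, l (D.P.root a) < 0)

include hln in
/-- Positive root elements with parameters of product zero commute. -/
theorem commute_of_mul_zero {X : Over S} {a c : D.idx} (ha : 0 < l (D.P.root a)) (hc : 0 < l (D.P.root c))
    {x y : Γ(X.left, ⊤)} (hxy : x * y = 0) :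
    P (D.u a) x * P (D.u c) y = P (D.u c) y * P (D.u a) x := by
  classical
  rcases eq_or_ne a c with rfl | hac
  · rw [← P_add, ← P_add, add_comm]
  let R : Set D.idx := {d | ∃ p q : ℕ, 1 ≤ p ∧ 1 ≤ q ∧
    D.P.root d = (p : ℤ) • D.P.root a + (q : ℤ) • D.P.root c}
  obtain ⟨n, e, he⟩ := exists_enum R
  have hmem : ∀ k, e k ∈ R := fun k => he.2 ▸ Set.mem_range_self k
  choose i j hi hj hij using hmem
  obtain ⟨C, hC, -⟩ := Weyl.commutator_formula b a c (mem_pos_of_pos b hln ha) (mem_pos_of_pos b hln hc) e i j he.1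
    (fun k => ⟨hi k, hj k, hij k⟩) (fun d p q hp hq h => he.2 ▸ ⟨p, q, hp, hq, h⟩)
  have h := hC X (Ga.gaPt x) (Ga.gaPt y) (fun _ => Ga.gaPt 0) fun k => by
    obtain ⟨p, hp⟩ := Nat.exists_eq_succ_of_ne_zero (Nat.one_le_iff_ne_zero.1 (hi k))
    obtain ⟨q, hq⟩ := Nat.exists_eq_succ_of_ne_zero (Nat.one_le_iff_ne_zero.1 (hj k))
    simp only [Ga.gaFn_gaPt, hp, hq, pow_succ]
    linear_combination (-(X.hom.appTop (C k) * x ^ p * y ^ q)) * hxy
  rw [List.prod_eq_one (fun g hg => by
    obtain ⟨k, rfl⟩ := List.mem_ofFn.1 hg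
    exact P_zero (D.u (e k))), _root_.mul_one] at h
  exact mul_inv_eq_iff_eq_mul.1 h

/-- The parameter `s ^ d * x` over `Y[s]`. -/
noncomputable def sPow {Y : Over S} [IsAffine Y.left] (d : ℕ) (x : Γ(Y.left, ⊤)) : Γ((poly Y).left, ⊤) :=
  fn Y (Polynomial.C : Γ(Y.left, ⊤) →+* Polynomial Γ(Y.left, ⊤)) (Polynomial.X ^ d) *
    (polyHom Y).left.appTop x

/-- The coefficient map of the truncation. -/
noncomputable def truncC (R : Type u) [CommRing R] (k : ℕ) :
    R →+* Polynomial R ⧸ Ideal.span {(Polynomial.X : Polynomial R) ^ k} :=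
  (Ideal.Quotient.mk _).comp Polynomial.C

/-- The truncation `Y[s] / (s ^ k)`. -/
noncomputable abbrev trunc (Y : Over S) [IsAffine Y.left] (k : ℕ) : Over S :=
  ext Y (truncC Γ(Y.left, ⊤) k)

theorem trunc_aux {Y : Over S} [IsAffine Y.left] {R' : Type u} [CommRing R'] (φ' : Γ(Y.left, ⊤) →+* R')
    (ψ : Polynomial Γ(Y.left, ⊤) →+* R')
    (hψ : ψ.comp Polynomial.C = φ'.comp (𝟙 Y : Y ⟶ Y).left.appTop.hom) (d : ℕ) (x : Γ(Y.left, ⊤)) :
    (extMap _ φ' (𝟙 Y) ψ hψ).left.appTop (sPow d x) = fn Y φ' (ψ (Polynomial.X ^ d * Polynomial.C x)) := by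
  rw [sPow, map_mul (extMap _ φ' (𝟙 Y) ψ hψ).left.appTop.hom, extHom_fn, extMap_fn, extMap_fn, map_mul ψ,
    map_mul (fn Y φ')]

theorem truncC_eq (Y : Over S) [IsAffine Y.left] (k : ℕ) :
    (Ideal.Quotient.mk (Ideal.span {(Polynomial.X : Polynomial Γ(Y.left, ⊤)) ^ k})).comp Polynomial.C =
      (truncC Γ(Y.left, ⊤) k).comp (𝟙 Y : Y ⟶ Y).left.appTop.hom :=
  RingHom.ext fun _ => rfl

/-- Its inclusion in `Y[s]`. -/
noncomputable def truncHom (Y : Over S) [IsAffine Y.left] (k : ℕ) : trunc Y k ⟶ poly Y :=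
  extMap _ (truncC Γ(Y.left, ⊤) k) (𝟙 Y) (Ideal.Quotient.mk _) (truncC_eq Y k)

theorem truncHom_sPow {Y : Over S} [IsAffine Y.left] (k d : ℕ) (x : Γ(Y.left, ⊤)) :
    (truncHom Y k).left.appTop (sPow d x) =
      fn Y (truncC Γ(Y.left, ⊤) k) (Ideal.Quotient.mk (Ideal.span {(Polynomial.X : Polynomial Γ(Y.left, ⊤)) ^ k})
        (Polynomial.X ^ d * Polynomial.C x)) :=
  trunc_aux (truncC Γ(Y.left, ⊤) k) (Ideal.Quotient.mk _) (truncC_eq Y k) d x

theorem trunc_sPow_zero {Y : Over S} [IsAffine Y.left] (k d : ℕ) :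
    (truncHom Y k).left.appTop (sPow d (0 : Γ(Y.left, ⊤))) = 0 := by
  rw [sPow, map_zero, mul_zero, map_zero]

theorem trunc_prod_zero {Y : Over S} [IsAffine Y.left] {a c h : ℕ} {x y : Γ(Y.left, ⊤)}
    (hx : a < h → x = 0) (hy : c < h → y = 0) (ha : 0 < a) :
    (truncHom Y (h + 1)).left.appTop (sPow a x) * (truncHom Y (h + 1)).left.appTop (sPow c y) = 0 := by
  by_cases h1 : a < h
  · rw [hx h1, trunc_sPow_zero, zero_mul]
  by_cases h2 : c < h
  · rw [hy h2, trunc_sPow_zero, mul_zero]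
  rw [truncHom_sPow, truncHom_sPow, ← map_mul (fn Y (truncC Γ(Y.left, ⊤) (h + 1))), ← map_mul (Ideal.Quotient.mk _),
    trunc_mul_zero (by omega), map_zero]

theorem sPow_add {Y : Over S} [IsAffine Y.left] (d : ℕ) (x y : Γ(Y.left, ⊤)) :
    sPow d (x + y) = sPow d x + sPow d y := by
  rw [sPow, sPow, sPow, map_add, mul_add]

theorem toPoly_root {a : D.idx} (ha : 0 < l (D.P.root a)) {Y : Over S} [IsAffine Y.left] (x : Γ(Y.left, ⊤)) :
    toPoly Y ≫ P (D.u a) (sPow (l (D.P.root a)).toNat x) = conjPt (gcochar D l) (P (D.u a) x) := by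
  set d := (l (D.P.root a)).toNat
  have hdeg : HasDeg (cochar D l) (chr D (D.P.root a)) (d : ℤ) := by
    rw [Int.toNat_of_nonneg ha.le]; exact hasDeg D l _
  have hm : (toPoly Y).left.appTop (fn Y (Polynomial.C : Γ(Y.left, ⊤) →+* Polynomial Γ(Y.left, ⊤)) (Polynomial.X ^ d)) =
      ((sU Y ^ d : Γ((laur Y).left, ⊤)ˣ) : Γ((laur Y).left, ⊤)) := by
    refine (toPoly_fn Y (Polynomial.X ^ d)).trans ?_
    rw [map_pow, Polynomial.toLaurent_X, map_pow, Units.val_pow_eq_pow_val, sU_val]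
  have hx : (toPoly Y).left.appTop ((polyHom Y).left.appTop x) = (laurHom Y).left.appTop x := by
    change (((polyHom Y).left.appTop ≫ (toPoly Y).left.appTop) x) = _
    rw [← Scheme.Hom.comp_appTop, ← Over.comp_left, toPoly_polyHom]
  have hdg : Red.gmFn ((Gm.gmPt (sU Y) ≫ cochar D l) ≫ chr D (D.P.root a)) =
      ((sU Y ^ d : Γ((laur Y).left, ⊤)ˣ) : Γ((laur Y).left, ⊤)) := by
    rw [hdeg, zpow_natCast]
  rw [conjPt, cs_eq, P_comp (D.u a) (laurHom Y), isRootPts D a, mul_inv_cancel_right, P_comp (D.u a) (toPoly Y),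
    sPow, map_mul, hm, hx, hdg]

variable {m : ℕ} {e' : Fin m → D.idx}

theorem toPoly_prod (he' : ∀ k, 0 < l (D.P.root (e' k))) {Y : Over S} [IsAffine Y.left]
    (x : Fin m → Γ(Y.left, ⊤)) :
    toPoly Y ≫ prodPts m (fun k => P (D.u (e' k)) (sPow (l (D.P.root (e' k))).toNat (x k))) =
      conjPt (gcochar D l) (prodPts m fun k => P (D.u (e' k)) (x k)) := by
  have key : ∀ (n : ℕ) (g : Fin n → (Y ⟶ G)),
      conjPt (gcochar D l) (prodPts n g) = prodPts n fun k => conjPt (gcochar D l) (g k) := by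
    intro n
    induction n with
    | zero => intro g; simp [prodPts, conjPt, MonObj.comp_one]
    | succ n ih => intro g; rw [prodPts_succ g, conjPt_mul, ih, prodPts_succ]
  rw [key, comp_prodPts]
  exact congrArg _ (funext fun k => toPoly_root (he' k) (x k))

include hlp hln in
set_option maxHeartbeats 1000000 in
/-- The leading coordinates of a commutator with a torus element. -/
theorem leading_coord (hinj : Function.Injective e') (he' : ∀ k, 0 < l (D.P.root (e' k)))
    {Y : Over S} [IsAffine Y.left] (hs : Small Y) (t : Y ⟶ D.T) {h : ℕ} {x z : Fin m → Γ(Y.left, ⊤)}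
    (hx : ∀ k, (l (D.P.root (e' k))).toNat < h → x k = 0)
    (hz : prodPts m (fun k => P (D.u (e' k)) (z k)) = (t ≫ D.i) * prodPts m (fun k => P (D.u (e' k)) (x k)) *
      (t ≫ D.i)⁻¹ * (prodPts m fun k => P (D.u (e' k)) (x k))⁻¹) :
    ∀ k, (l (D.P.root (e' k))).toNat ≤ h → z k = (Red.gmFn (t ≫ chr D (D.P.root (e' k))) - 1) * x k := by
  haveI := isAffineHom D
  haveI := mono_of_isClosedImmersion _ (mono_prodMap_pos hinj he')
  let d : Fin m → ℕ := fun k => (l (D.P.root (e' k))).toNat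
  let f : Fin m → Γ(Y.left, ⊤) := fun k => Red.gmFn (t ≫ chr D (D.P.root (e' k)))
  have hconj : (t ≫ D.i) * prodPts m (fun k => P (D.u (e' k)) (x k)) * (t ≫ D.i)⁻¹ =
      prodPts m fun k => P (D.u (e' k)) (f k * x k) :=
    mul_inv_eq_iff_eq_mul.2 (mul_prodPts _ fun k => isRootPts D (e' k) t (x k))
  rw [hconj, eq_mul_inv_iff_mul_eq] at hz
  have hpath := congrArg (conjPt (gcochar D l)) hz
  rw [conjPt_mul, ← toPoly_prod he', ← toPoly_prod he', ← toPoly_prod he', ← MonObj.comp_mul] at hpath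
  have hq := congrArg (truncHom Y (h + 1) ≫ ·) (eq_of_injective (toPoly Y) (toPoly_injective Y)
    (hs.of_hom (polyHom Y)) hpath)
  simp only [MonObj.comp_mul, comp_prodPts, P_comp] at hq
  let ε : Fin m → Γ(Y.left, ⊤) → Γ((trunc Y (h + 1)).left, ⊤) := fun k r =>
    (truncHom Y (h + 1)).left.appTop (sPow (d k) r)
  change prodPts m (fun k => P (D.u (e' k)) (ε k (z k))) * prodPts m (fun k => P (D.u (e' k)) (ε k (x k))) =
    prodPts m fun k => P (D.u (e' k)) (ε k (f k * x k)) at hq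
  have hprod : ∀ i j, ε i (x i) * ε j ((f j - 1) * x j) = 0 := fun i j => by
    refine trunc_prod_zero (fun hi => hx i hi) (fun hj => ?_) ?_
    · rw [hx j hj, mul_zero]
    · have := he' i; simp only [d]; omega
  have hsplit : prodPts m (fun k => P (D.u (e' k)) (ε k (f k * x k))) =
      prodPts m (fun k => P (D.u (e' k)) (ε k ((f k - 1) * x k))) *
        prodPts m (fun k => P (D.u (e' k)) (ε k (x k))) := by
    rw [← prodPts_mul_prodPts fun i j => commute_of_mul_zero b hln (he' i) (he' j) ?_]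
    · refine congrArg _ (funext fun k => ?_)
      rw [← P_add]
      refine congrArg _ ?_
      change (truncHom Y (h + 1)).left.appTop (sPow _ _) =
        (truncHom Y (h + 1)).left.appTop (sPow _ _) + (truncHom Y (h + 1)).left.appTop (sPow _ _)
      rw [← map_add, ← sPow_add]
      congr 2
      ring
    · exact hprod i j
  have heq := Weyl.uniq_coords _ _ (mul_right_cancel (hq.trans hsplit))
  intro k hk
  have h1 := congrFun heq k
  change (truncHom Y (h + 1)).left.appTop (sPow (d k) (z k)) =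
    (truncHom Y (h + 1)).left.appTop (sPow (d k) ((f k - 1) * x k)) at h1
  rw [truncHom_sPow, truncHom_sPow] at h1
  exact eq_of_trunc (d := d k) (by simp only [d]; omega) ((fn Y _).injective h1)

end Groth.Agent.H82.Borel
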