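import Groth.Agent.H82.Borel.LimLocus
import Groth.Agent.H82.Contract.Commute

/-!
# Limits commute with the cocharacter
-/

set_option autoImplicit false
set_option linter.style.haveILetI false
set_option linter.unusedSectionVars false
universe u

open CategoryTheory MonoidalCategory CartesianMonoidalCategory MonObj GrpObj AlgebraicGeometry
open Groth.Agent.Lib.RedPts Groth.Agent.H82.BigCell Groth.Agent.H82.Contract
open Groth.Agent.H82.RankOne (gmPt_eq gmPt_mul gmPt_comp)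

namespace Groth.Agent.H82.Borel

variable {S : Scheme.{u}} {G : Over S} [GrpObj G] [IsAffineHom G.hom] {c : Red.Gm S ⟶ G} [IsMonHom c]

theorem isMonHom_c_comm {Y : Over S} (z z' : Y ⟶ Red.Gm S) : (z ≫ c) * (z' ≫ c) = (z' ≫ c) * (z ≫ c) := by
  rw [← MonObj.mul_comp _ _ c, ← MonObj.mul_comp _ _ c]
  refine congrArg (· ≫ c) (Gm.gmFn_injective ?_)
  rw [Gm.gmFn_mul, Gm.gmFn_mul, _root_.mul_comm]

/-- The substitution `s ↦ u s`. -/
theorem exists_scale (Y : Over S) [IsAffine Y.left] (u : Γ(Y.left, ⊤)ˣ) :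
    ∃ (σ : poly Y ⟶ poly Y) (τ : laur Y ⟶ laur Y), toPoly Y ≫ σ = τ ≫ toPoly Y ∧ τ ≫ laurHom Y = laurHom Y ∧
      Contract.zeroSec Y ≫ σ = Contract.zeroSec Y ∧
      Units.map τ.left.appTop.hom.toMonoidHom (sU Y) = sU Y * Units.map (laurHom Y).left.appTop.hom.toMonoidHom u := by
  let ψ : Polynomial Γ(Y.left, ⊤) →+* Polynomial Γ(Y.left, ⊤) :=
    Polynomial.eval₂RingHom Polynomial.C (Polynomial.C (u : Γ(Y.left, ⊤)) * Polynomial.X)
  let w : (LaurentPolynomial Γ(Y.left, ⊤))ˣ :=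
    Units.map (LaurentPolynomial.C (R := Γ(Y.left, ⊤))).toMonoidHom u *
      (LaurentPolynomial.isUnit_T (R := Γ(Y.left, ⊤)) 1).unit
  let θ : LaurentPolynomial Γ(Y.left, ⊤) →+* LaurentPolynomial Γ(Y.left, ⊤) :=
    LaurentPolynomial.eval₂ LaurentPolynomial.C w
  refine ⟨extMap _ _ (𝟙 Y) ψ (RingHom.ext fun a => by simp [ψ]),
    extMap _ _ (𝟙 Y) θ (RingHom.ext fun a => by simp [θ]), ?_,
    (extMap_extHom _ _ _ _ _).trans (Category.comp_id _), ?_, ?_⟩
  · refine hom_ext_fn _ fun p => ?_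
    rw [Over.comp_left, Over.comp_left, Scheme.Hom.comp_appTop, Scheme.Hom.comp_appTop, CommRingCat.comp_apply,
      CommRingCat.comp_apply, extMap_fn, toPoly_fn, toPoly_fn, extMap_fn]
    refine congrArg _ ?_
    refine RingHom.congr_fun (f := (Polynomial.toLaurent).comp ψ) (g := θ.comp Polynomial.toLaurent) ?_ p
    refine Polynomial.ringHom_ext (fun a => ?_) ?_
    · simp [ψ, θ]
    · simp [ψ, θ, w, Polynomial.toLaurent_X]
  · refine hom_ext_fn _ fun p => ?_
    rw [Over.comp_left, Scheme.Hom.comp_appTop, CommRingCat.comp_apply, extMap_fn, Contract.zeroSec_fn,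
      Contract.zeroSec_fn]
    refine RingHom.congr_fun (f := (Polynomial.evalRingHom 0).comp ψ) (g := Polynomial.evalRingHom 0) ?_ p
    refine Polynomial.ringHom_ext (fun a => ?_) ?_ <;> simp [ψ]
  · refine Units.ext ?_
    rw [Units.val_mul]
    change (extMap _ _ (𝟙 Y) θ _).left.appTop (fn Y _ (LaurentPolynomial.T 1)) =
      fn Y _ (LaurentPolynomial.T 1) * (laurHom Y).left.appTop (u : Γ(Y.left, ⊤))
    rw [extMap_fn, extHom_fn, ← map_mul]
    refine congrArg _ ?_
    change LaurentPolynomial.eval₂ LaurentPolynomial.C w (LaurentPolynomial.T 1) = _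
    rw [LaurentPolynomial.eval₂_T, zpow_one]
    exact _root_.mul_comm _ _

/-- A limit commutes with the cocharacter. -/
theorem commutes_of_isLimPt {X : Over S} {g L : X ⟶ G} (hg : IsLimPt c g L) : Commutes c L := fun Y₀ f₀ z₀ => by
  refine pt_ext_affine fun q => ?_
  haveI : IsAffine (piece Y₀ q).left := inferInstanceAs (IsAffine (Y₀.left.affineCover.X q))
  rw [MonObj.comp_mul, MonObj.comp_mul, ← Category.assoc, ← Category.assoc _ f₀]
  let Y := piece Y₀ q
  let f := pieceHom Y₀ q ≫ f₀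
  let z := pieceHom Y₀ q ≫ z₀
  obtain ⟨h, hh, h0⟩ := hg Y f inferInstance
  obtain ⟨u, hu⟩ := Gm.isUnit_gmFn z
  have hz : z = Gm.gmPt u := gmPt_eq z hu.symm
  obtain ⟨σ, τ, hστ, hτ, hσ0, hτu⟩ := exists_scale Y u
  have h1 : IsLimPt c ((z ≫ c) * (f ≫ g) * (z ≫ c)⁻¹) (f ≫ L) := by
    rw [← h0, ← hσ0, Category.assoc]
    refine isLimPt_of_affine (σ ≫ h) ?_
    rw [reassoc_of% hστ, hh, conjPt, conjPt, MonObj.comp_mul, MonObj.comp_mul, GrpObj.comp_inv, reassoc_of% hτ]
    simp only [cs, MonObj.comp_mul, GrpObj.comp_inv]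
    rw [← Category.assoc τ, gmPt_comp, hτu, gmPt_mul, MonObj.mul_comp _ _ c, ← gmPt_comp, Category.assoc, ← hz,
      _root_.mul_inv_rev]
    group
    simp only [z, Category.assoc]
  have hcz : IsLimPt c (z ≫ c) (z ≫ c) :=
    isLimPt_of_commute _ fun Y' f' z' => by rw [← Category.assoc]; exact isMonHom_c_comm z' _
  have h2 := (hcz.mul (hg.comp f)).mul hcz.inv
  have h3 := h1.unique h2
  exact mul_inv_eq_iff_eq_mul.1 h3.symm

end Groth.Agent.H82.Borel
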