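import Groth.Agent.H82.Contract.Closed

/-!
# The locus of points having a limit under a cocharacter is closed
-/

set_option autoImplicit false
set_option linter.style.haveILetI false
set_option linter.unusedSectionVars false
universe u

open CategoryTheory MonoidalCategory CartesianMonoidalCategory MonObj GrpObj AlgebraicGeometry
open Groth.Agent.Lib.RedPts Groth.Agent.H82.BigCell Groth.Agent.H82.Contract

namespace Groth.Agent.H82.Borel

variable {S : Scheme.{u}}

section PolyMap

variable {Y Z : Over S} [IsAffine Y.left] [IsAffine Z.left] (f : Z ⟶ Y)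

/-- Change of base of `Y[s]`. -/
noncomputable def polyMap : poly Z ⟶ poly Y :=
  extMap _ _ f (Polynomial.mapRingHom f.left.appTop.hom) (by
    refine RingHom.ext fun a => ?_
    exact Polynomial.map_C _)

theorem polyMap_fn (p : Polynomial Γ(Y.left, ⊤)) :
    (polyMap f).left.appTop (fn Y _ p) = fn Z _ (p.map f.left.appTop.hom) :=
  extMap_fn _ _ _ _ _ p

theorem toLaurent_map {R R' : Type u} [CommRing R] [CommRing R'] (φ : R →+* R') (p : Polynomial R) :
    Polynomial.toLaurent (p.map φ) = AddMonoidAlgebra.mapRingHom ℤ φ (Polynomial.toLaurent p) := by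
  induction p using Polynomial.induction_on' with
  | add p q hp hq => simp [Polynomial.map_add, hp, hq]
  | monomial n a =>
    rw [Polynomial.map_monomial, ← Polynomial.C_mul_X_pow_eq_monomial, ← Polynomial.C_mul_X_pow_eq_monomial,
      Polynomial.toLaurent_C_mul_X_pow, Polynomial.toLaurent_C_mul_X_pow, ← LaurentPolynomial.single_eq_C_mul_T,
      ← LaurentPolynomial.single_eq_C_mul_T]
    exact (AddMonoidAlgebra.mapRingHom_single _ _ _).symm

theorem toPoly_polyMap : toPoly Z ≫ polyMap f = laurMap f ≫ toPoly Y := by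
  refine hom_ext_fn _ fun p => ?_
  rw [Over.comp_left, Over.comp_left, Scheme.Hom.comp_appTop, Scheme.Hom.comp_appTop, CommRingCat.comp_apply,
    CommRingCat.comp_apply, polyMap_fn, toPoly_fn, toPoly_fn, laurMap_fn, toLaurent_map]

theorem zeroSec_polyMap : Contract.zeroSec Z ≫ polyMap f = f ≫ Contract.zeroSec Y := by
  refine hom_ext_fn _ fun p => ?_
  rw [Over.comp_left, Over.comp_left, Scheme.Hom.comp_appTop, Scheme.Hom.comp_appTop, CommRingCat.comp_apply,
    CommRingCat.comp_apply, polyMap_fn, Contract.zeroSec_fn, Contract.zeroSec_fn, Polynomial.eval_zero_map]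

end PolyMap

variable {G : Over S} [GrpObj G] {c : Red.Gm S ⟶ G}

/-- On an affine test scheme one extension gives all the others. -/
theorem isLimPt_of_affine {X : Over S} [IsAffine X.left] {g : X ⟶ G} (h : poly X ⟶ G)
    (hh : toPoly X ≫ h = conjPt c g) : IsLimPt c g (Contract.zeroSec X ≫ h) := fun Y f hY => by
  refine ⟨polyMap f ≫ h, ?_, ?_⟩
  · rw [← Category.assoc, toPoly_polyMap, Category.assoc, hh, laurMap_conjPt]
  · rw [← Category.assoc, zeroSec_polyMap, Category.assoc]

theorem coeff_toLaurent_neg {R : Type*} [CommRing R] (p : Polynomial R) {j : ℤ} (hj : j < 0) :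
    (Polynomial.toLaurent p).coeff j = 0 :=
  Finsupp.notMem_support_iff.1 fun hm => by
    rw [LaurentPolynomial.support_coeff_toLaurent] at hm
    simp at hm
    omega

theorem exists_toLaurent_eq {R : Type*} [CommRing R] {p : LaurentPolynomial R}
    (h : ∀ j < 0, p.coeff j = 0) : ∃ q : Polynomial R, Polynomial.toLaurent q = p := by
  obtain ⟨n, q, hq⟩ := p.exists_T_pow
  have hc : ∀ k : ℕ, k < n → q.coeff k = 0 := fun k hk => by
    have h1 : (Polynomial.toLaurent q).coeff (k : ℤ) = q.coeff k := by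
      rw [LaurentPolynomial.coeff_toLaurent]
      exact Finsupp.mapDomain_apply Nat.castEmbedding.injective _ k
    rw [← h1, hq]
    have h2 : (p * LaurentPolynomial.T (n : ℤ)).coeff (k : ℤ) = p.coeff ((k : ℤ) - n) * 1 := by
      rw [LaurentPolynomial.T]
      exact AddMonoidAlgebra.coeff_mul_single_eq_coeff_mul _ (fun m _ => by omega)
    rw [h2, _root_.mul_one]
    exact h _ (by omega)
  obtain ⟨q', rfl⟩ := Polynomial.X_pow_dvd_iff.2 hc
  refine ⟨q', ?_⟩
  rw [map_mul, Polynomial.toLaurent_X_pow, _root_.mul_comm] at hq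
  exact (LaurentPolynomial.isUnit_T (n : ℤ)).mul_left_inj.1 hq

variable [IsAffineHom G.hom] {U : S.Opens}

/-- The negative components of the coordinates vanish at a point with a limit. -/
theorem cd_coeff_eq_zero [IsAffine (chart G U).left] {Z : Over S} [IsAffine Z.left]
    (hZ : Set.range Z.hom ⊆ (U : Set S)) {g L : Z ⟶ G} (hg : IsLimPt c g L)
    (b : Γ((chart G U).left, ⊤)) {j : ℤ} (hj : j < 0) : cd hZ g ((kappa (U := U) c b).coeff j) = 0 := by
  obtain ⟨h, hh, -⟩ := hg Z (𝟙 Z) inferInstance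
  rw [Category.id_comp] at hh
  have h1 : cdv LaurentPolynomial.C hZ (conjPt c g) b = Polynomial.toLaurent (cdv Polynomial.C hZ h b) := by
    rw [← hh, toPoly]
    exact cdv_extMap _ _ _ _ hZ hZ h b
  rw [cdv_conjPt] at h1
  have h2 := congrArg (fun z => z.coeff j) h1
  simp only [AddMonoidAlgebra.coeff_mapRingHom, coeff_toLaurent_neg _ hj] at h2
  exact h2

/-- If the negative components of the coordinates vanish, the limit exists. -/
theorem exists_lim [IsAffine (chart G U).left] (hU : IsAffineOpen U) {Z : Over S} [IsAffine Z.left]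
    (hZ : Set.range Z.hom ⊆ (U : Set S)) (g : Z ⟶ G)
    (h0 : ∀ b, ∀ j < 0, cd hZ g ((kappa (U := U) c b).coeff j) = 0) : ∃ L, IsLimPt c g L := by
  have hex : ∀ b, ∃ q : Polynomial Γ(Z.left, ⊤),
      Polynomial.toLaurent q = cdv LaurentPolynomial.C hZ (conjPt c g) b := fun b =>
    exists_toLaurent_eq fun j hj => by
      rw [cdv_conjPt, AddMonoidAlgebra.coeff_mapRingHom]
      exact h0 b j hj
  choose q hq using hex
  have hinj := Polynomial.toLaurent_injective (R := Γ(Z.left, ⊤))
  let ψ : Γ((chart G U).left, ⊤) →+* Polynomial Γ(Z.left, ⊤) :=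
    { toFun := q
      map_one' := hinj (by rw [hq, map_one, map_one])
      map_mul' := fun a b => hinj (by rw [map_mul, hq, hq, hq, map_mul])
      map_zero' := hinj (by rw [hq, map_zero, map_zero])
      map_add' := fun a b => hinj (by rw [map_add, hq, hq, hq, map_add]) }
  let χ : Γ((chart G U).left, ⊤) →+* Γ((poly Z).left, ⊤) := (fn Z _).toRingHom.comp ψ
  let h' : (poly Z).left ⟶ (chart G U).left :=
    (poly Z).left.toSpecΓ ≫ Spec.map (CommRingCat.ofHom χ) ≫ (chart G U).left.isoSpec.inv
  have happ : ∀ b, h'.appTop b = χ b := fun b => by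
    have h1 : h' ≫ (chart G U).left.toSpecΓ = (poly Z).left.toSpecΓ ≫ Spec.map (CommRingCat.ofHom χ) := by
      simp only [h', Category.assoc, ← Scheme.isoSpec_hom, Iso.inv_hom_id, Category.comp_id]
    rw [Scheme.toSpecΓ_naturality] at h1
    have h2 := congrArg Scheme.Hom.appTop h1
    simp only [Scheme.Hom.comp_appTop, Scheme.toSpecΓ_appTop, Scheme.ΓSpecIso_naturality] at h2
    have h3 := (cancel_epi (Scheme.ΓSpecIso Γ((chart G U).left, ⊤)).hom).1 h2
    exact congrArg (fun w => w.hom b) h3
  have hL := range_of_hom (laurHom Z) hZ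
  have hcomp : (toPoly Z).left ≫ h' = (chartLift hL (conjPt c g)).left := by
    refine ext_of_isAffine (CommRingCat.hom_ext (RingHom.ext fun b => ?_))
    change ((toPoly Z).left ≫ h').appTop b = cd hL (conjPt c g) b
    rw [Scheme.Hom.comp_appTop, CommRingCat.comp_apply, happ]
    change (toPoly Z).left.appTop (fn Z _ (q b)) = _
    rw [toPoly_fn, hq]
    exact fn_cdv _ hZ (conjPt c g) b
  haveI : IsAffine (U : Scheme.{u}) := hU
  haveI : IsAffine (opn U).left := hU
  let toU : ∀ {W : Over S}, Set.range W.hom ⊆ (U : Set S) → (W.left ⟶ (U : Scheme.{u})) := fun {W} hW =>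
    IsOpenImmersion.lift U.ι W.hom (by rwa [Scheme.Opens.range_ι])
  have hw : h' ≫ (chart G U).hom = (poly Z).hom := by
    have e : h' ≫ toU range_chart = toU (range_of_hom (polyHom Z) hZ) := by
      refine ext_of_isAffine (CommRingCat.hom_ext (RingHom.ext fun r => toPoly_injective Z ?_))
      change ((toPoly Z).left.appTop) ((h' ≫ toU range_chart).appTop r) =
        (toPoly Z).left.appTop ((toU (range_of_hom (polyHom Z) hZ)).appTop r)
      rw [← CommRingCat.comp_apply, ← CommRingCat.comp_apply, ← Scheme.Hom.comp_appTop, ← Scheme.Hom.comp_appTop]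
      refine congrArg (fun w : (laur Z).left ⟶ (U : Scheme.{u}) => w.appTop r) ?_
      rw [← cancel_mono U.ι]
      simp only [Category.assoc, toU, IsOpenImmersion.lift_fac]
      rw [← Category.assoc, hcomp]
      exact (Over.w _).trans (Over.w (toPoly Z)).symm
    have := congrArg (· ≫ U.ι) e
    simpa only [Category.assoc, toU, IsOpenImmersion.lift_fac] using this
  refine ⟨Contract.zeroSec Z ≫ (Over.homMk h' hw : poly Z ⟶ chart G U) ≫ chartHom G U,
    isLimPt_of_affine _ ?_⟩
  have e : toPoly Z ≫ (Over.homMk h' hw : poly Z ⟶ chart G U) = chartLift hL (conjPt c g) :=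
    Over.OverMorphism.ext hcomp
  rw [reassoc_of% e, chartLift_fac]

theorem cd_chartHom [IsAffine (chart G U).left] (b : Γ((chart G U).left, ⊤)) :
    cd range_chart (chartHom G U) b = b := by
  have : chartLift range_chart (chartHom G U) = 𝟙 (chart G U) := by
    have h := chartLift_fac (G := G) range_chart (chartHom G U)
    exact Over.OverMorphism.ext ((cancel_mono (G.hom ⁻¹ᵁ U).ι).1
      ((congrArg Over.Hom.left h).trans (Category.id_comp _).symm))
  rw [cd, this]
  simp

set_option maxHeartbeats 1000000 in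
/-- A monomorphism whose points are the points with a limit is a closed immersion. -/
theorem isClosedImmersion_of_limLocus {B : Over S} (π : B ⟶ G) [Mono π]
    (h : ∀ (X : Over S) (g : X ⟶ G), (∃ z, z ≫ π = g) ↔ ∃ L, IsLimPt c g L) :
    IsClosedImmersion π.left := by
  rw [IsZariskiLocalAtTarget.iff_of_iSup_eq_top (P := @IsClosedImmersion)
    (fun U : S.affineOpens => G.hom ⁻¹ᵁ U.1) (by rw [← Scheme.Hom.preimage_iSup, iSup_affineOpens_eq_top]; rfl)]
  intro ⟨U, hU⟩
  haveI := isAffine_chart G hU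
  let W := π.left ⁻¹ᵁ (G.hom ⁻¹ᵁ U)
  let WO : Over S := Over.mk (W.ι ≫ B.hom)
  let incl : WO ⟶ B := Over.homMk W.ι rfl
  haveI : Mono incl := (Over.forget S).mono_of_mono_map (inferInstanceAs (Mono W.ι))
  have hWO : Set.range WO.hom ⊆ (U : Set S) := by
    rintro _ ⟨⟨p, hp⟩, rfl⟩
    change B.hom p ∈ (U : Set S)
    rw [← Over.w π]
    exact hp
  let I : Ideal Γ((chart G U).left, ⊤) :=
    Ideal.span {r | ∃ b, ∃ j < 0, (kappa (U := U) c b).coeff j = r}
  let φ := Ideal.Quotient.mk I
  let Q := ext (chart G U) φ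
  let gQ : Q ⟶ G := extHom (chart G U) φ ≫ chartHom G U
  have hQ : Set.range Q.hom ⊆ (U : Set S) := range_of_hom (extHom (chart G U) φ) range_chart
  obtain ⟨L, hL⟩ := exists_lim hU hQ gQ (c := c) fun b j hj => by
    rw [cd_comp (extHom (chart G U) φ) range_chart hQ (chartHom G U), cd_chartHom, extHom_fn,
      (Ideal.Quotient.eq_zero_iff_mem.2 (Ideal.subset_span ⟨b, j, hj, rfl⟩) : φ ((kappa (U := U) c b).coeff j) = 0),
      map_zero]
  obtain ⟨w₀, hw₀⟩ := (h Q gQ).2 ⟨L, hL⟩
  let w : Q ⟶ WO := Over.homMk (IsOpenImmersion.lift W.ι w₀.left (by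
    rw [Scheme.Opens.range_ι]
    rintro _ ⟨p, rfl⟩
    change G.hom (π.left (w₀.left p)) ∈ (U : Set S)
    rw [← Scheme.Hom.comp_apply, Over.w π, ← Scheme.Hom.comp_apply, Over.w w₀]
    exact hQ ⟨p, rfl⟩)) (by
      change _ ≫ W.ι ≫ _ = _
      rw [IsOpenImmersion.lift_fac_assoc, Over.w w₀])
  have hw : w ≫ incl = w₀ := Over.OverMorphism.ext (IsOpenImmersion.lift_fac _ _ _)
  obtain ⟨L', hL'⟩ := (h WO (incl ≫ π)).1 ⟨incl, rfl⟩
  obtain ⟨v, hv, -⟩ := exists_toExt φ (chartLift hWO (incl ≫ π))
    (Ideal.Quotient.lift I (cd hWO (incl ≫ π)) fun r hr => by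
      refine RingHom.mem_ker.1 (Ideal.span_le.2 ?_ hr)
      rintro _ ⟨b, j, hj, rfl⟩
      refine fn_ext_affine fun X' f hX' => ?_
      rw [map_zero, ← cd_comp f hWO (range_of_hom f hWO) (incl ≫ π)]
      exact cd_coeff_eq_zero _ (hL'.comp f) b hj) (Ideal.Quotient.lift_comp_mk _ _ _)
  have hv' : v ≫ gQ = incl ≫ π := by rw [← Category.assoc, hv, chartLift_fac]
  haveI hcl : IsClosedImmersion (extHom (chart G U) φ).left :=
    haveI : IsClosedImmersion (Spec.map (CommRingCat.ofHom φ)) :=
      IsClosedImmersion.spec_of_surjective _ Ideal.Quotient.mk_surjective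
    inferInstanceAs (IsClosedImmersion (Spec.map (CommRingCat.ofHom φ) ≫ (chart G U).left.isoSpec.inv))
  haveI : Mono (extHom (chart G U) φ) := (Over.forget S).mono_of_mono_map (inferInstanceAs (Mono (extHom (chart G U) φ).left))
  have hvw : v ≫ w = 𝟙 WO := by
    rw [← cancel_mono incl, ← cancel_mono π, Category.assoc v, hw, Category.assoc, hw₀, hv', Category.id_comp]
  have hwv : w ≫ v = 𝟙 Q := by
    haveI : Mono (chartHom G U) := (Over.forget S).mono_of_mono_map (inferInstanceAs (Mono (G.hom ⁻¹ᵁ U).ι))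
    rw [← cancel_mono (extHom (chart G U) φ), Category.assoc, hv, Category.id_comp,
      ← cancel_mono (chartHom G U), Category.assoc, chartLift_fac, ← Category.assoc, hw, hw₀]
  haveI : IsIso v.left := ⟨w.left, by rw [← Over.comp_left, hvw]; rfl, by rw [← Over.comp_left, hwv]; rfl⟩
  have e : π.left ∣_ (G.hom ⁻¹ᵁ U) = v.left ≫ (extHom (chart G U) φ).left := by
    rw [← cancel_mono (G.hom ⁻¹ᵁ U).ι, morphismRestrict_ι]
    exact (congrArg Over.Hom.left hv').symm
  change IsClosedImmersion (π.left ∣_ (G.hom ⁻¹ᵁ U))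
  rw [e]
  infer_instance

end Groth.Agent.H82.Borel
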