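import Groth.Agent.H82.Borel.Maximal
import Groth.Prelude.Def_RedSub

/-!
# The Borel subgroup of a base of the root datum
-/

set_option autoImplicit false
set_option linter.style.haveILetI false
set_option linter.unusedSectionVars false
universe u

open CategoryTheory MonoidalCategory CartesianMonoidalCategory MonObj GrpObj AlgebraicGeometry
open Groth.Agent.Lib.RedPts Groth.Agent.H82.BigCell Groth.Agent.H82.Contract

namespace Groth.Agent.H82.Borel

variable {S : Scheme.{u}} {G : Over S} [GrpObj G] {D : Red.SplitRed G}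

theorem isSolvableGrp_bc {S' : Scheme.{u}} (f : S' ⟶ S) {B : Over S} [GrpObj B] {N : ℕ}
    (h : ∀ X : Over S, derivedSeries (X ⟶ B) N = ⊥) : Red.IsSolvableGrp (Red.bc f B) := by
  refine ⟨N, fun X => le_bot_iff.1 fun a ha => ?_⟩
  have h1 : (BC.downMulEquiv f X B).toMonoidHom a ∈ derivedSeries ((Over.map f).obj X ⟶ B) N :=
    map_derivedSeries_le_derivedSeries (BC.downMulEquiv f X B).toMonoidHom N ⟨a, ha, rfl⟩
  rw [h, Subgroup.mem_bot] at h1
  exact Subgroup.mem_bot.2 ((BC.downMulEquiv f X B).map_eq_one_iff.1 h1)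

theorem smooth_borelDom (m : ℕ) : Smooth (D.T ⊗ RedSub.pow (Red.Ga S) m : Over S).hom := by
  haveI := smooth_T (D := D)
  haveI := smoothOfRelativeDimension_pow (S := S) m
  haveI := smoothOfRelativeDimension_tensor (S := S) (X := D.T) (Y := RedSub.pow (Red.Ga S) m)
    (m := Module.finrank ℤ D.M) (n := m)
  exact SmoothOfRelativeDimension.smooth (Module.finrank ℤ D.M + m) _

set_option maxHeartbeats 1000000 in
/-- Torus times the positive root groups is a Borel subgroup. -/
theorem isBorel_borelMap (b : D.P.Base) {m : ℕ} {epos : Fin m → D.idx}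
    (hpos : RedSub.Enumerates (RedSub.posRoots D.P b) epos) :
    IsClosedImmersion (RedSub.borelMap D epos).left ∧
      ∃ _ : GrpObj (D.T ⊗ RedSub.pow (Red.Ga S) m), Red.IsBorel (RedSub.borelMap D epos) := by
  classical
  obtain ⟨l, hlp, hln⟩ := exists_regular (D := D) b
  obtain ⟨n, eneg, hneg⟩ := exists_enum (RedSub.negRoots D.P b)
  haveI : IsOpenImmersion (RedSub.cellMap D eneg epos).left :=
    Weyl.isOpenImmersion_of_base b eneg epos hneg hpos
  haveI := isAffineHom D
  have hl : ∀ a, l (D.P.root a) ≠ 0 := fun a =>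
    (b.root_mem_or_neg_mem a).elim (fun h => (hlp a h).ne') fun h => (hln a h).ne
  have hen : ∀ k, l (D.P.root (eneg k)) < 0 := fun k => hln _ (hneg.2 ▸ Set.mem_range_self k)
  have hep : ∀ k, 0 < l (D.P.root (epos k)) := fun k => hlp _ (hpos.2 ▸ Set.mem_range_self k)
  haveI := mono_cellMap (l := l) hneg.1 hpos.1 hen hep
  haveI := mono_borelMap (e := eneg) hpos.1 hep
  have hcl := isClosedImmersion_borelMap (e := eneg) hpos.1 hl hen hep
  obtain ⟨inst, hm⟩ := exists_grpObj (e := eneg) hpos.1 hl hen hep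
  obtain ⟨N, hN⟩ := exists_solvable b hln hep
  refine ⟨hcl, inst, hm, hcl, smooth_borelDom m, fun s => ?_⟩
  haveI := smooth_borelDom (D := D) m
  refine ⟨inferInstance,
    Groth.Agent.Lib.GrpSch.bc_map_left_of (Red.geomPt s) (P := @IsClosedImmersion) (RedSub.borelMap D epos) hcl,
    MorphismProperty.pullback_snd _ _ inferInstance, isConnected_cell_aux eneg epos (Red.geomPt s),
    isSolvableGrp_bc _ hN, fun B' _ i' _ g₀ hc hs hconn hsol hg₀ => ?_⟩
  exact isIso_of_le b hlp hln hneg hpos (Red.geomPt s) i' hsol g₀ hg₀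

end Groth.Agent.H82.Borel
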