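import Groth.Agent.H82.Borel.RankOneSolv
import Groth.Agent.Lib.GrpSch.BaseChange
import Groth.Agent.Lib.GrpSch.SmoothReduced
import Groth.Agent.H1.GrpIrred

/-!
# Torus times positive root groups is maximal solvable on geometric fibres
-/

set_option autoImplicit false
set_option linter.style.haveILetI false
set_option linter.unusedSectionVars false
universe u

open CategoryTheory MonoidalCategory CartesianMonoidalCategory MonObj GrpObj AlgebraicGeometry
open Groth.Agent.Lib.RedPts Groth.Agent.H82.BigCell Groth.Agent.H82.Contract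
open Groth.Agent.H82.RankOne (P P_eq P_zero P_comp P_add P_neg)
open scoped commutatorElement

namespace Groth.Agent.H82.Borel

variable {S : Scheme.{u}} {G : Over S} [GrpObj G] {D : Red.SplitRed G}

theorem exists_torus_scale {Y : Over S} (hY : IsACPt Y) {c : D.idx} (l : D.M →+ ℤ) (hc : l (D.P.root c) = 2)
    {x y : Γ(Y.left, ⊤)} (hx : x ≠ 0) (hy : y ≠ 0) :
    ∃ t : Y ⟶ D.T, Red.gmFn (t ≫ chr D (D.P.root c)) * x = y := by
  haveI := hY.isField.isDomain
  obtain ⟨v, hv⟩ := hY.isField.mul_inv_cancel hx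
  obtain ⟨s, hs⟩ := hY.sqrt (y * v)
  have hv0 : v ≠ 0 := fun h => by rw [h, mul_zero] at hv; exact zero_ne_one hv
  have hs0 : s ≠ 0 := fun h => by rw [h, mul_zero] at hs; exact mul_ne_zero hy hv0 hs.symm
  obtain ⟨w, hw⟩ := hY.isField.mul_inv_cancel hs0
  refine ⟨Gm.gmPt (Units.mkOfMulEqOne s w hw) ≫ cochar D l, ?_⟩
  rw [gmFn_cochar, hc, zpow_two, Units.val_mul, Units.val_mkOfMulEqOne, hs, _root_.mul_assoc, _root_.mul_comm v,
    hv, _root_.mul_one]

theorem all_root_mem {Y : Over S} (hY : IsACPt Y) (H : Subgroup (Y ⟶ G)) (hT : ∀ t : Y ⟶ D.T, t ≫ D.i ∈ H)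
    (c : D.idx) {x : Γ(Y.left, ⊤)} (hx : x ≠ 0) (hxH : P (D.u c) x ∈ H) (y : Γ(Y.left, ⊤)) :
    P (D.u c) y ∈ H := by
  by_cases hy : y = 0
  · rw [hy, P_zero]; exact one_mem H
  obtain ⟨t, ht⟩ := exists_torus_scale hY _ (coroot_root c) hx hy
  have h := mul_mem (mul_mem (hT t) hxH) (inv_mem (hT t))
  rwa [mul_inv_eq_iff_eq_mul.2 (isRootPts D c t x), ht] at h

theorem isConnected_cell_aux {n m : ℕ} (e : Fin n → D.idx) (e' : Fin m → D.idx)
    [IsOpenImmersion (RedSub.cellMap D e e').left] [Mono (RedSub.cellMap D e e')]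
    {K : Type u} [Field K] (f : Spec (CommRingCat.of K) ⟶ S) :
    ConnectedSpace ↥((D.T ⊗ RedSub.pow (Red.Ga S) m) ⊗ Over.mk f : Over S).left := by
  classical
  haveI := D.reductive.2.1
  let Y : Over S := Over.mk f
  haveI : IrreducibleSpace (G ⊗ Y).left := Groth.Agent.Lib.ActSep.irreducibleSpace_geomFibre
    (isConnected_fibre D) f
  let Ω := RedSub.pow (Red.Ga S) n ⊗ (D.T ⊗ RedSub.pow (Red.Ga S) m)
  let B : Over S := D.T ⊗ RedSub.pow (Red.Ga S) m
  let V := (fst G Y).left ⁻¹ᵁ (RedSub.cellMap D e e').left.opensRange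
  let VO : Over S := Over.mk (V.ι ≫ (G ⊗ Y).hom)
  let j : VO ⟶ G ⊗ Y := Over.homMk V.ι rfl
  haveI : Mono j := (Over.forget S).mono_of_mono_map (inferInstanceAs (Mono V.ι))
  obtain ⟨z, hz⟩ := exists_factor (RedSub.cellMap D e e') (j ≫ fst G Y) (by
    rintro _ ⟨⟨p, hp⟩, rfl⟩; exact hp)
  let φ : VO ⟶ B ⊗ Y := lift (z ≫ snd _ _) (j ≫ snd G Y)
  let o : (B ⊗ Y : Over S) ⟶ Ω := lift (tuple n fun _ => Ga.gaPt 0) (fst B Y)
  let σ₀ : (B ⊗ Y : Over S) ⟶ G ⊗ Y := lift (o ≫ RedSub.cellMap D e e') (snd B Y)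
  have hσ₀ : Set.range σ₀.left ⊆ Set.range V.ι := by
    rw [Scheme.Opens.range_ι]
    rintro _ ⟨p, rfl⟩
    change (fst G Y).left (σ₀.left p) ∈ Set.range (RedSub.cellMap D e e').left
    rw [← Scheme.Hom.comp_apply, ← Over.comp_left, show σ₀ ≫ fst G Y = o ≫ RedSub.cellMap D e e' from lift_fst _ _,
      Over.comp_left, Scheme.Hom.comp_apply]
    exact ⟨_, rfl⟩
  let σ : (B ⊗ Y : Over S) ⟶ VO := Over.homMk (IsOpenImmersion.lift V.ι σ₀.left hσ₀) (by
    change _ ≫ V.ι ≫ _ = _
    rw [IsOpenImmersion.lift_fac_assoc, Over.w σ₀])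
  have hσ : σ ≫ j = σ₀ := Over.OverMorphism.ext (IsOpenImmersion.lift_fac _ _ _)
  have hσz : σ ≫ z = o := by
    rw [← cancel_mono (RedSub.cellMap D e e'), Category.assoc, hz, reassoc_of% hσ]
    exact lift_fst _ _
  have hσφ : σ ≫ φ = 𝟙 _ := by
    apply CartesianMonoidalCategory.hom_ext
    · rw [Category.assoc, lift_fst, reassoc_of% hσz, Category.id_comp]
      exact lift_snd _ _
    · rw [Category.assoc, lift_snd, reassoc_of% hσ, Category.id_comp]
      exact lift_snd _ _
  obtain ⟨w, hw⟩ := exists_one (D := D) (e := e) (e' := e') Y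
  have hne : (V : Set (G ⊗ Y).left).Nonempty := by
    refine ⟨(lift (1 : Y ⟶ G) (𝟙 Y)).left (IsLocalRing.closedPoint K), ?_⟩
    change (fst G Y).left _ ∈ Set.range (RedSub.cellMap D e e').left
    rw [← Scheme.Hom.comp_apply, ← Over.comp_left, lift_fst, ← hw, Over.comp_left, Scheme.Hom.comp_apply]
    exact ⟨_, rfl⟩
  haveI : ConnectedSpace VO.left :=
    isConnected_iff_connectedSpace.1
      (IsIrreducible.isConnected ⟨hne, (IrreducibleSpace.isIrreducible_univ _).isPreirreducible.open_subset V.2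
        (Set.subset_univ _)⟩)
  have hsurj : Function.Surjective φ.left := fun p => ⟨σ.left p, by
    rw [← Scheme.Hom.comp_apply, ← Over.comp_left, hσφ]; rfl⟩
  exact hsurj.connectedSpace φ.left.continuous

variable (b : D.P.Base) {l : D.M →+ ℤ} (hlp : ∀ a ∈ RedSub.posRoots D.P b, 0 < l (D.P.root a))
  (hln : ∀ a ∈ RedSub.negRoots D.P b, l (D.P.root a) < 0) {n m : ℕ} {eneg : Fin n → D.idx} {epos : Fin m → D.idx}

include hlp hln in
set_option maxHeartbeats 1000000 in
/-- A smooth connected solvable subgroup of a geometric fibre containing the Borel subgroup has no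
non-trivial point contracted by the opposite cocharacter. -/
theorem eq_one_of_neg (hneg : RedSub.Enumerates (RedSub.negRoots D.P b) eneg)
    (hpos : RedSub.Enumerates (RedSub.posRoots D.P b) epos) {K : Type u} [Field K] [IsAlgClosed K]
    (f : Spec (CommRingCat.of K) ⟶ S) {B' : Over (Spec (CommRingCat.of K))} [GrpObj B']
    (i' : B' ⟶ Red.bc f G) [IsMonHom i'] (hsol : Red.IsSolvableGrp B')
    (g₀ : Red.bc f (D.T ⊗ RedSub.pow (Red.Ga S) m) ⟶ B')
    (hg₀ : g₀ ≫ i' = (Over.pullback f).map (RedSub.borelMap D epos))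
    (x : 𝟙_ (Over (Spec (CommRingCat.of K))) ⟶ B')
    {z : (Over.map f).obj (𝟙_ _) ⟶ RedSub.pow (Red.Ga S) n}
    (hz : z ≫ RedSub.prodMap (Red.Ga S) n (fun k => D.u (eneg k)) = BC.down f (x ≫ i')) :
    BC.down f (x ≫ i') = 1 := by
  classical
  by_contra hne
  obtain ⟨b', hb'p, hb'n⟩ := exists_neg_base b
  haveI : IsOpenImmersion (RedSub.cellMap D eneg epos).left :=
    Weyl.isOpenImmersion_of_base b eneg epos hneg hpos
  haveI : IsOpenImmersion (RedSub.cellMap D epos eneg).left :=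
    Weyl.isOpenImmersion_of_base b' epos eneg (hb'n ▸ hpos) (hb'p ▸ hneg)
  haveI := isAffineHom D
  have hl : ∀ a, l (D.P.root a) ≠ 0 := fun a =>
    (b.root_mem_or_neg_mem a).elim (fun h => (hlp a h).ne') fun h => (hln a h).ne
  have hen : ∀ k, l (D.P.root (eneg k)) < 0 := fun k => hln _ (hneg.2 ▸ Set.mem_range_self k)
  have hep : ∀ k, 0 < l (D.P.root (epos k)) := fun k => hlp _ (hpos.2 ▸ Set.mem_range_self k)
  let φ : ∀ Z : Over (Spec (CommRingCat.of K)), (Z ⟶ B') →* ((Over.map f).obj Z ⟶ G) := fun Z =>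
    MonoidHom.mk' (fun a => BC.down f (a ≫ i')) fun a c => by rw [MonObj.mul_comp a c i', BC.down_mul]
  have hlim : ∀ (Z : Over (Spec (CommRingCat.of K))) (g : (Over.map f).obj Z ⟶ G),
      (∃ L, IsLimPt (gcochar D l) g L) → g ∈ (φ Z).range := fun Z g hg => by
    obtain ⟨w, hw⟩ := (exists_iff_lim (e := eneg) hl hen hep g).2 hg
    refine ⟨BC.up f w ≫ g₀, ?_⟩
    change BC.down f ((BC.up f w ≫ g₀) ≫ i') = g
    rw [Category.assoc, hg₀, BC.down_map, BC.down_up, hw]
  have hT : ∀ (Z : Over (Spec (CommRingCat.of K))) (t : (Over.map f).obj Z ⟶ D.T), t ≫ D.i ∈ (φ Z).range :=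
    fun Z t => hlim Z _ ⟨_, isLimPt_torus_pt t⟩
  have hP : ∀ (Z : Over (Spec (CommRingCat.of K))) (c : D.idx), 0 < l (D.P.root c) →
      ∀ y, P (D.u c) y ∈ (φ Z).range := fun Z c hc y => hlim Z _ ⟨1, by
    refine isLimPt_root (d := (l (D.P.root c)).toNat) (isRootPts D c) (by omega) ?_ y
    rw [Int.toNat_of_nonneg hc.le]
    exact hasDeg D l _⟩
  have hY : IsACPt ((Over.map f).obj (𝟙_ (Over (Spec (CommRingCat.of K))))) := isACPt_mk K _
  haveI := hY.aff
  haveI := hY.infinite
  haveI := hY.isField.nontrivial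
  obtain ⟨a, y, ha, hy, hyH⟩ := exists_root_mem b' (l := -l) (e := epos) (e' := eneg)
    (fun c hc => by rw [hb'p] at hc; simpa using hln c hc) (fun c hc => by rw [hb'n] at hc; simpa using hlp c hc)
    (fun k => by simpa using hep k) hneg.1 (fun k => by simpa using hen k) hY.isField hY.small (φ _).range
    (hT _) (g := BC.down f (x ≫ i')) ⟨x, rfl⟩ hne hz
  rw [AddMonoidHom.neg_apply] at ha
  obtain ⟨Y, jj, ω, hYac, hω, hωC⟩ := exists_omega (D := D) b a
    (Y₀ := (Over.map f).obj (𝟙_ (Over (Spec (CommRingCat.of K)))))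
  let Zk : Over (Spec (CommRingCat.of K)) := Over.mk jj.left
  let Z := (Over.map f).obj Zk
  have hZY : Y.hom = Z.hom := by
    rw [← Over.w jj]
    change jj.left ≫ 𝟙 _ ≫ f = jj.left ≫ f
    rw [Category.id_comp]
  let i₁ : Z ⟶ Y := Over.homMk (𝟙 _) (by simp [hZY])
  have hZac : IsACPt Z :=
    { aff := hYac.aff, isField := hYac.isField, infinite := hYac.infinite, sqrt := hYac.sqrt
      small := hYac.small.of_hom i₁, single := hYac.single }
  let rk : Zk ⟶ 𝟙_ (Over (Spec (CommRingCat.of K))) := toUnit Zk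
  let r : Z ⟶ (Over.map f).obj (𝟙_ (Over (Spec (CommRingCat.of K)))) := (Over.map f).map rk
  have hyZ : r.left.appTop y ≠ 0 := by
    haveI := hZac.isField.nontrivial
    letI := hY.isField.toField
    exact (map_ne_zero_iff r.left.appTop.hom (RingHom.injective _)).2 hy
  have hyH' : P (D.u a) (r.left.appTop y) ∈ (φ Zk).range := by
    obtain ⟨q, hq⟩ := hyH
    refine ⟨rk ≫ q, ?_⟩
    change BC.down f ((rk ≫ q) ≫ i') = _
    rw [Category.assoc, BC.down_comp, show BC.down f (q ≫ i') = P (D.u a) y from hq, P_comp]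
  have hmap : ∀ g ∈ rootPair D a (D.P.reflectionPerm a a) Y, i₁ ≫ g ∈ rootPair D a (D.P.reflectionPerm a a) Z := by
    intro g hg
    induction hg using Subgroup.closure_induction with
    | mem g hg =>
      obtain ⟨r, rfl | rfl⟩ := hg <;> rw [P_comp]
      · exact (P_mem_rootPair a _ _).1
      · exact (P_mem_rootPair a _ _).2
    | one => rw [MonObj.comp_one]; exact one_mem _
    | mul g g' _ _ ihg ihg' => rw [MonObj.comp_mul]; exact mul_mem ihg ihg'
    | inv g _ ihg => rw [GrpObj.comp_inv]; exact inv_mem ihg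
  have hωZ := hmap ω hω
  obtain ⟨N, hN⟩ := hsol
  refine false_of_solvable hZac (fun k => (derivedSeries (Zk ⟶ B') k).map (φ Zk))
    (fun k => by rw [derivedSeries_succ, Subgroup.map_commutator]) (N := N)
    (show (derivedSeries (Zk ⟶ B') N).map (φ Zk) = ⊥ by rw [hN Zk, Subgroup.map_bot]) a ?_ ?_ ?_ hωZ fun u => ?_
  · intro t
    rw [derivedSeries_zero, ← MonoidHom.range_eq_map]
    exact hT Zk t
  · intro w
    rw [derivedSeries_zero, ← MonoidHom.range_eq_map]
    exact all_root_mem hZac _ (hT Zk) a hyZ hyH' w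
  · intro w
    rw [derivedSeries_zero, ← MonoidHom.range_eq_map]
    exact hP Zk _ (by rw [root_neg_idx, map_neg]; omega) w
  · let j₁ : Y ⟶ Z := Over.homMk (𝟙 _) (by simp [hZY])
    have hij : i₁ ≫ j₁ = 𝟙 Z := by ext; simp [i₁, j₁]
    have h := congrArg (i₁ ≫ ·) (hωC (Units.map j₁.left.appTop.hom.toMonoidHom u))
    simp only [MonObj.comp_mul, GrpObj.comp_inv, ← Category.assoc, ← RankOne.gmPt_comp] at h
    rw [hij] at h
    simpa only [Category.id_comp] using h

include hlp hln in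
/-- A rational point lying in the cell lies in the Borel subgroup. -/
theorem mem_range_of_cell (hneg : RedSub.Enumerates (RedSub.negRoots D.P b) eneg)
    (hpos : RedSub.Enumerates (RedSub.posRoots D.P b) epos) {K : Type u} [Field K] [IsAlgClosed K]
    (f : Spec (CommRingCat.of K) ⟶ S) {B' : Over (Spec (CommRingCat.of K))} [GrpObj B']
    (i' : B' ⟶ Red.bc f G) [IsMonHom i'] (hsol : Red.IsSolvableGrp B')
    (g₀ : Red.bc f (D.T ⊗ RedSub.pow (Red.Ga S) m) ⟶ B')
    (hg₀ : g₀ ≫ i' = (Over.pullback f).map (RedSub.borelMap D epos))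
    (x : 𝟙_ (Over (Spec (CommRingCat.of K))) ⟶ B')
    (z : (Over.map f).obj (𝟙_ _) ⟶ RedSub.pow (Red.Ga S) n ⊗ (D.T ⊗ RedSub.pow (Red.Ga S) m))
    (hz : z ≫ RedSub.cellMap D eneg epos = BC.down f (x ≫ i'))
    {p : B'.left} (hx : ∀ s, x.left s = p) :
    i'.left p ∈ Set.range ((Over.pullback f).map (RedSub.borelMap D epos)).left := by
  let w := z ≫ snd _ _
  let q := BC.up f w ≫ g₀
  have hq : BC.down f (q ≫ i') = w ≫ RedSub.borelMap D epos := by
    rw [Category.assoc, hg₀, BC.down_map, BC.down_up]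
  have hcell : BC.down f (x ≫ i') = ((z ≫ fst _ _) ≫ RedSub.prodMap (Red.Ga S) n fun k => D.u (eneg k)) *
      (w ≫ RedSub.borelMap D epos) := by
    rw [← hz, comp_borelMap]
    refine (comp_cellMap epos z).trans ?_
    simp only [w, Category.assoc]
  have hy : (z ≫ fst _ _) ≫ RedSub.prodMap (Red.Ga S) n (fun k => D.u (eneg k)) =
      BC.down f ((x * q⁻¹) ≫ i') := by
    rw [MonObj.mul_comp _ _ i', GrpObj.inv_comp _ i', BC.down_mul, BC.down_inv, hq, hcell, mul_inv_cancel_right]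
  have h1 := eq_one_of_neg b hlp hln hneg hpos f i' hsol g₀ hg₀ (x * q⁻¹) hy
  rw [MonObj.mul_comp _ _ i', GrpObj.inv_comp _ i', BC.down_mul, BC.down_inv, mul_inv_eq_one] at h1
  refine ⟨(BC.up f w).left (IsLocalRing.closedPoint K), ?_⟩
  rw [← Scheme.Hom.comp_apply, ← Over.comp_left]
  have h2 : x ≫ i' = BC.up f w ≫ (Over.pullback f).map (RedSub.borelMap D epos) := by
    refine BC.down_injective ?_
    rw [h1, hq, BC.down_map, BC.down_up]
  rw [← h2, Over.comp_left, Scheme.Hom.comp_apply]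
  exact congrArg i'.left (hx _)

include hlp hln in
set_option maxHeartbeats 1000000 in
/-- The Borel subgroup is maximal among smooth connected solvable subgroups of a geometric fibre. -/
theorem isIso_of_le (hneg : RedSub.Enumerates (RedSub.negRoots D.P b) eneg)
    (hpos : RedSub.Enumerates (RedSub.posRoots D.P b) epos) {K : Type u} [Field K] [IsAlgClosed K]
    (f : Spec (CommRingCat.of K) ⟶ S) {B' : Over (Spec (CommRingCat.of K))} [GrpObj B']
    (i' : B' ⟶ Red.bc f G) [IsMonHom i'] [IsClosedImmersion i'.left] [Smooth B'.hom] [ConnectedSpace B'.left]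
    (hsol : Red.IsSolvableGrp B') (g₀ : Red.bc f (D.T ⊗ RedSub.pow (Red.Ga S) m) ⟶ B')
    (hg₀ : g₀ ≫ i' = (Over.pullback f).map (RedSub.borelMap D epos)) : IsIso g₀ := by
  classical
  haveI : IsOpenImmersion (RedSub.cellMap D eneg epos).left :=
    Weyl.isOpenImmersion_of_base b eneg epos hneg hpos
  haveI := isAffineHom D
  have hl : ∀ a, l (D.P.root a) ≠ 0 := fun a =>
    (b.root_mem_or_neg_mem a).elim (fun h => (hlp a h).ne') fun h => (hln a h).ne
  have hen : ∀ k, l (D.P.root (eneg k)) < 0 := fun k => hln _ (hneg.2 ▸ Set.mem_range_self k)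
  have hep : ∀ k, 0 < l (D.P.root (epos k)) := fun k => hlp _ (hpos.2 ▸ Set.mem_range_self k)
  let Ω := RedSub.pow (Red.Ga S) n ⊗ (D.T ⊗ RedSub.pow (Red.Ga S) m)
  let bK := (Over.pullback f).map (RedSub.borelMap D epos)
  let cK := (Over.pullback f).map (RedSub.cellMap D eneg epos)
  haveI : IsClosedImmersion bK.left := Groth.Agent.Lib.GrpSch.bc_map_left_of f (P := @IsClosedImmersion)
    (RedSub.borelMap D epos) (isClosedImmersion_borelMap (e := eneg) hpos.1 hl hen hep)
  haveI : IsOpenImmersion cK.left := Groth.Agent.Lib.GrpSch.bc_map_left_of f (P := @IsOpenImmersion)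
    (RedSub.cellMap D eneg epos) inferInstance
  haveI : Mono bK := (Over.forget _).mono_of_mono_map (inferInstanceAs (Mono bK.left))
  haveI : Mono i' := (Over.forget _).mono_of_mono_map (inferInstanceAs (Mono i'.left))
  haveI : LocallyOfFiniteType B'.hom := inferInstance
  haveI : IsAffineHom (Limits.pullback.snd G.hom f) := MorphismProperty.pullback_snd _ _ inferInstance
  haveI : IsAffine (Red.bc f G).left := isAffine_of_isAffineHom (Limits.pullback.snd G.hom f)
  haveI : IsAffine B'.left := isAffine_of_isAffineHom i'.left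
  haveI : QuasiCompact B'.hom := inferInstance
  haveI : IrreducibleSpace B'.left := Groth.Agent.H1.GrpIrred.irreducibleSpace_of_isAlgClosed B'
  haveI : JacobsonSpace B'.left := LocallyOfFiniteType.jacobsonSpace B'.hom
  haveI : IsReduced B'.left := Groth.Agent.Lib.GrpSch.isReduced_of_smooth_field B'.hom
  let V := i'.left ⁻¹ᵁ cK.left.opensRange
  let C : Set B'.left := i'.left ⁻¹' Set.range bK.left
  have hC : IsClosed C := bK.left.isClosedEmbedding.isClosed_range.preimage i'.left.continuous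
  have hVC : ∀ p ∈ closedPoints B'.left, p ∈ V → p ∈ C := by
    intro p hp hpV
    let x : 𝟙_ (Over (Spec (CommRingCat.of K))) ⟶ B' :=
      Over.homMk (pointOfClosedPoint B'.hom p hp) (pointOfClosedPoint_comp B'.hom p hp)
    have hx : ∀ s, x.left s = p := fun s => pointOfClosedPoint_apply B'.hom p hp s
    let o : (𝟙_ (Over (Spec (CommRingCat.of K)))).left := IsLocalRing.closedPoint K
    let g := BC.down f (x ≫ i')
    obtain ⟨z, hz⟩ := exists_factor (RedSub.cellMap D eneg epos) g (by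
      rintro _ ⟨q, rfl⟩
      obtain ⟨v, hv⟩ : i'.left p ∈ Set.range cK.left := hpV
      refine ⟨(Limits.pullback.fst Ω.hom f) v, ?_⟩
      change _ = ((x ≫ i').left ≫ Limits.pullback.fst G.hom f) q
      rw [Over.comp_left, Scheme.Hom.comp_apply, Scheme.Hom.comp_apply, hx q, ← hv, ← Scheme.Hom.comp_apply,
        ← Scheme.Hom.comp_apply]
      exact (congrArg (fun w : (Red.bc f Ω).left ⟶ G.left => w v) (Limits.pullback.lift_fst _ _ _)).symm)
    exact mem_range_of_cell b hlp hln hneg hpos f i' hsol g₀ hg₀ x z hz hx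
  have hVne : (V : Set B'.left).Nonempty := by
    obtain ⟨w, hw⟩ := exists_one (D := D) (e := eneg) (e' := epos) ((Over.map f).obj (𝟙_ _))
    refine ⟨(1 : 𝟙_ (Over (Spec (CommRingCat.of K))) ⟶ B').left (IsLocalRing.closedPoint K), ?_⟩
    change i'.left _ ∈ Set.range cK.left
    have : (1 : 𝟙_ (Over (Spec (CommRingCat.of K))) ⟶ B') ≫ i' = BC.up f w ≫ cK := by
      refine BC.down_injective ?_
      rw [MonObj.one_comp, BC.down_one, BC.down_map, BC.down_up, hw]
    rw [← Scheme.Hom.comp_apply, ← Over.comp_left, this, Over.comp_left, Scheme.Hom.comp_apply]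
    exact ⟨_, rfl⟩
  have hsub : (V : Set B'.left) ⊆ C := by
    intro p hp
    by_contra hpC
    obtain ⟨q, ⟨hqV, hqC⟩, hq⟩ := nonempty_inter_closedPoints (Z := (V : Set B'.left) ∩ Cᶜ) ⟨p, hp, hpC⟩
      ((V.2.inter hC.isOpen_compl).isLocallyClosed)
    exact hqC (hVC q hq hqV)
  have huniv : C = Set.univ := Set.eq_univ_of_univ_subset
    ((V.2.dense hVne).closure_eq ▸ closure_minimal hsub hC)
  let π := Limits.pullback.snd bK.left i'.left
  haveI : Surjective π := ⟨fun p => by
    obtain ⟨v, hv⟩ : i'.left p ∈ Set.range bK.left := (huniv ▸ Set.mem_univ p : p ∈ C)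
    obtain ⟨w, -, hw⟩ := Scheme.Pullback.exists_preimage_pullback v p hv
    exact ⟨w, hw⟩⟩
  haveI : IsClosedImmersion π := inferInstance
  haveI : IsIso π := isIso_of_isClosedImmersion_of_surjective π
  let h₀ : B' ⟶ Red.bc f (D.T ⊗ RedSub.pow (Red.Ga S) m) :=
    Over.homMk (inv π ≫ Limits.pullback.fst bK.left i'.left) (by
      rw [Category.assoc, ← Over.w bK, Limits.pullback.condition_assoc, IsIso.inv_hom_id_assoc, Over.w i'])
  have hh : h₀ ≫ bK = i' := Over.OverMorphism.ext (by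
    simp only [h₀, Over.comp_left, Over.homMk_left, Category.assoc, Limits.pullback.condition]
    exact IsIso.inv_hom_id_assoc π _)
  exact ⟨h₀, (cancel_mono bK).1 (by rw [Category.assoc, hh, hg₀, Category.id_comp]),
    (cancel_mono i').1 (by rw [Category.assoc, hg₀, hh, Category.id_comp])⟩

end Groth.Agent.H82.Borel
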