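import Groth.Agent.H82.Borel.LimCommute
import Groth.Agent.H82.Weyl.Extend
import Groth.Agent.Lib.FreeRes.SubGrp

/-!
# Torus times positive root groups is a closed subgroup
-/

set_option autoImplicit false
set_option linter.style.haveILetI false
set_option linter.unusedSectionVars false
universe u

open CategoryTheory MonoidalCategory CartesianMonoidalCategory MonObj GrpObj AlgebraicGeometry
open Groth.Agent.Lib.RedPts Groth.Agent.H82.BigCell Groth.Agent.H82.Contract
open Groth.Agent.H82.RankOne (P P_eq P_zero P_comp)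

namespace Groth.Agent.H82.Borel

variable {S : Scheme.{u}} {G : Over S} [GrpObj G] {D : Red.SplitRed G}

theorem exists_enum (R : Set D.idx) : ∃ (n : ℕ) (e : Fin n → D.idx), RedSub.Enumerates R e := by
  classical
  refine ⟨_, fun k => ((Fintype.equivFin R).symm k).1, Subtype.val_injective.comp (Equiv.injective _),
    Set.ext fun a => ⟨?_, fun h => ⟨Fintype.equivFin R ⟨a, h⟩, by simp⟩⟩⟩
  rintro ⟨k, rfl⟩
  exact ((Fintype.equivFin R).symm k).2

theorem exists_frame (b : D.P.Base) {m : ℕ} (epos : Fin m → D.idx)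
    (hpos : RedSub.Enumerates (RedSub.posRoots D.P b) epos) :
    ∃ (l : D.M →+ ℤ) (n : ℕ) (eneg : Fin n → D.idx), RedSub.Enumerates (RedSub.negRoots D.P b) eneg ∧
      (∀ k, l (D.P.root (eneg k)) < 0) ∧ (∀ k, 0 < l (D.P.root (epos k))) ∧ (∀ a, l (D.P.root a) ≠ 0) ∧
      IsOpenImmersion (RedSub.cellMap D eneg epos).left := by
  obtain ⟨l, hlp, hln⟩ := exists_regular (D := D) b
  obtain ⟨n, eneg, hneg⟩ := exists_enum (RedSub.negRoots D.P b)
  exact ⟨l, n, eneg, hneg, fun k => hln _ (hneg.2 ▸ Set.mem_range_self k),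
    fun k => hlp _ (hpos.2 ▸ Set.mem_range_self k),
    fun a => (b.root_mem_or_neg_mem a).elim (fun h => (hlp a h).ne') (fun h => (hln a h).ne),
    Weyl.isOpenImmersion_of_base b eneg epos hneg hpos⟩

variable {l : D.M →+ ℤ} {n m : ℕ} {e : Fin n → D.idx} {e' : Fin m → D.idx}

theorem comp_borelMap {X : Over S} (z : X ⟶ D.T ⊗ RedSub.pow (Red.Ga S) m) :
    z ≫ RedSub.borelMap D e' = ((z ≫ fst _ _) ≫ D.i) *
      ((z ≫ snd _ _) ≫ RedSub.prodMap (Red.Ga S) m fun k => D.u (e' k)) := by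
  rw [RedSub.borelMap, MonObj.comp_mul]
  simp only [Category.assoc]

theorem isLimPt_torus_conj {X : Over S} (t : X ⟶ D.T) {g : X ⟶ G} (hg : IsLimPt (gcochar D l) g 1) :
    IsLimPt (gcochar D l) ((t ≫ D.i)⁻¹ * g * (t ≫ D.i)) 1 := by
  have := ((isLimPt_torus_pt (l := l) t).inv.mul hg).mul (isLimPt_torus_pt (l := l) t)
  rwa [_root_.mul_one, inv_mul_cancel] at this

variable [IsOpenImmersion (RedSub.cellMap D e e').left]

include e in
theorem exists_iff_lim (hl : ∀ a, l (D.P.root a) ≠ 0) (he : ∀ k, l (D.P.root (e k)) < 0)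
    (he' : ∀ k, 0 < l (D.P.root (e' k))) {X : Over S} (g : X ⟶ G) :
    (∃ z, z ≫ RedSub.borelMap D e' = g) ↔ ∃ L, IsLimPt (gcochar D l) g L := by
  haveI := isAffineHom D
  constructor
  · rintro ⟨z, rfl⟩
    refine ⟨((z ≫ fst _ _) ≫ D.i) * 1, ?_⟩
    rw [comp_borelMap]
    exact (isLimPt_torus_pt _).mul (isLimPt_pos he' _)
  · rintro ⟨L, hL⟩
    obtain ⟨t, ht⟩ := exists_torus_of_regular hl (commutes_of_isLimPt hL)
    have h1 : IsLimPt (gcochar D l) ((t ≫ D.i)⁻¹ * g) 1 := by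
      have := (isLimPt_torus_pt (l := l) t).inv.mul hL
      rwa [← ht, inv_mul_cancel] at this
    obtain ⟨z, hz⟩ := exists_prod_of_isLimPt he he' h1
    refine ⟨lift t z, ?_⟩
    rw [comp_borelMap, lift_fst, lift_snd, hz, mul_inv_cancel_left]

include e in
theorem mono_borelMap (hinj : Function.Injective e') (he' : ∀ k, 0 < l (D.P.root (e' k))) :
    Mono (RedSub.borelMap D e') := by
  haveI := isAffineHom D
  haveI := mono_of_isClosedImmersion _ (mono_prodMap_pos hinj he')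
  refine ⟨fun {X} z z' h => ?_⟩
  rw [comp_borelMap, comp_borelMap] at h
  obtain ⟨-, ht, hx⟩ := factors_unique (c := gcochar D l) (y := (1 : X ⟶ G)) (y' := 1) isLimPt_one isLimPt_one
    (isLimPt_torus_pt (l := l) _) (isLimPt_torus_pt (l := l) _) (isLimPt_pos he' _) (isLimPt_pos he' _)
    (congrArg (fun w => (1 : X ⟶ G) * w) h)
  exact CartesianMonoidalCategory.hom_ext _ _ ((cancel_mono D.i).1 ht) ((cancel_mono _).1 hx)

include e in
theorem isClosedImmersion_borelMap (hinj : Function.Injective e') (hl : ∀ a, l (D.P.root a) ≠ 0)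
    (he : ∀ k, l (D.P.root (e k)) < 0) (he' : ∀ k, 0 < l (D.P.root (e' k))) :
    IsClosedImmersion (RedSub.borelMap D e').left := by
  haveI := isAffineHom D
  haveI := mono_borelMap (e := e) hinj he'
  exact isClosedImmersion_of_limLocus _ fun X g => exists_iff_lim (e := e) hl he he' g

include e in
theorem exists_grpObj (hinj : Function.Injective e') (hl : ∀ a, l (D.P.root a) ≠ 0)
    (he : ∀ k, l (D.P.root (e k)) < 0) (he' : ∀ k, 0 < l (D.P.root (e' k))) :
    ∃ _ : GrpObj (D.T ⊗ RedSub.pow (Red.Ga S) m), IsMonHom (RedSub.borelMap D e') := by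
  haveI := isAffineHom D
  haveI := mono_borelMap (e := e) hinj he'
  have hiff := fun {X : Over S} (g : X ⟶ G) => exists_iff_lim (e := e) hl he he' g
  refine Groth.Agent.Lib.FreeRes.exists_grpObj_of_mono _ (fun X => (hiff 1).2 ⟨1, isLimPt_one⟩)
    (fun a c => ?_) (fun a => ?_)
  · obtain ⟨L, hL⟩ := (hiff _).1 ⟨a, rfl⟩
    obtain ⟨L', hL'⟩ := (hiff _).1 ⟨c, rfl⟩
    exact (hiff _).2 ⟨_, hL.mul hL'⟩
  · obtain ⟨L, hL⟩ := (hiff _).1 ⟨a, rfl⟩
    exact (hiff _).2 ⟨_, hL.inv⟩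

include e in
/-- The unipotent part is the subgroup of points with limit `1`. -/
theorem exists_iff_limOne (he : ∀ k, l (D.P.root (e k)) < 0)
    (he' : ∀ k, 0 < l (D.P.root (e' k))) {X : Over S} (g : X ⟶ G) :
    (∃ z, z ≫ RedSub.prodMap (Red.Ga S) m (fun k => D.u (e' k)) = g) ↔ IsLimPt (gcochar D l) g 1 :=
  ⟨fun ⟨z, hz⟩ => hz ▸ isLimPt_pos he' z, exists_prod_of_isLimPt he he'⟩

end Groth.Agent.H82.Borel
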