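import Groth.Agent.H82.Borel.RootElement
import Groth.Agent.H82.Weyl.RankOneGen

/-!
# A pair of opposite root groups with the torus is not solvable
-/

set_option autoImplicit false
set_option linter.style.haveILetI false
set_option linter.unusedSectionVars false
universe u

open CategoryTheory MonoidalCategory CartesianMonoidalCategory MonObj GrpObj AlgebraicGeometry
open Groth.Agent.Lib.RedPts Groth.Agent.H82.BigCell Groth.Agent.H82.Contract
open Groth.Agent.H82.RankOne (P P_eq P_zero P_comp P_add P_neg gmPt_mul gmPt_inv gmPt_eq)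
open scoped commutatorElement

namespace Groth.Agent.H82.Borel

variable {S : Scheme.{u}}

/-- A geometric point, seen as an object over the base. -/
structure IsACPt (Y : Over S) : Prop where
  aff : IsAffine Y.left
  isField : IsField Γ(Y.left, ⊤)
  infinite : Infinite Γ(Y.left, ⊤)
  sqrt : ∀ r : Γ(Y.left, ⊤), ∃ s, s * s = r
  small : Small Y
  single : Subsingleton Y.left

theorem isACPt_mk (K : Type u) [Field K] [IsAlgClosed K] (f : Spec (CommRingCat.of K) ⟶ S) :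
    IsACPt (Over.mk f) := by
  let e : K ≃+* Γ((Over.mk f).left, ⊤) := (Scheme.ΓSpecIso (CommRingCat.of K)).symm.commRingCatIsoToRingEquiv
  refine ⟨inferInstanceAs (IsAffine (Spec (CommRingCat.of K))), e.symm.toMulEquiv.isField (Field.toIsField K),
    Infinite.of_injective e e.injective, fun r => ?_, ?_, (inferInstanceAs (Subsingleton (PrimeSpectrum K)) : Subsingleton (Spec (CommRingCat.of K) : Scheme))⟩
  · obtain ⟨s, hs⟩ := IsAlgClosed.exists_eq_mul_self (e.symm r)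
    exact ⟨e s, by rw [← map_mul, ← hs, RingEquiv.apply_symm_apply]⟩
  · obtain ⟨U, hU, hpU, -⟩ := exists_isAffineOpen_mem_and_subset (x := f.base (IsLocalRing.closedPoint K))
      (U := ⊤) trivial
    refine ⟨U, hU, ?_⟩
    rintro _ ⟨q, rfl⟩
    haveI : Subsingleton (Over.mk f).left := inferInstanceAs (Subsingleton (PrimeSpectrum K))
    rw [Subsingleton.elim q (IsLocalRing.closedPoint K)]
    exact hpU

variable {G : Over S} [GrpObj G] {D : Red.SplitRed G}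

/-- The group generated by the root elements of `a` and `a'`. -/
noncomputable def rootPair (D : Red.SplitRed G) (a a' : D.idx) (Y : Over S) : Subgroup (Y ⟶ G) :=
  Subgroup.closure {g | ∃ x : Γ(Y.left, ⊤), g = P (D.u a) x ∨ g = P (D.u a') x}

theorem P_mem_rootPair (a a' : D.idx) {Y : Over S} (x : Γ(Y.left, ⊤)) :
    P (D.u a) x ∈ rootPair D a a' Y ∧ P (D.u a') x ∈ rootPair D a a' Y :=
  ⟨Subgroup.subset_closure ⟨x, Or.inl rfl⟩, Subgroup.subset_closure ⟨x, Or.inr rfl⟩⟩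

theorem coroot_root (a : D.idx) : (D.P.coroot a).toAddMonoidHom (D.P.root a) = 2 := by
  have := D.P.root_coroot_eq_pairing a a
  rw [D.P.pairing_same, D.pairing_eq] at this
  exact this

theorem exists_ne_smul {Y : Over S} (hY : IsACPt Y) {k : ℤ} (hk : k ≠ 0) (x : Γ(Y.left, ⊤)) :
    ∃ (z : Γ(Y.left, ⊤)ˣ) (w : Γ(Y.left, ⊤)), ((z ^ k : Γ(Y.left, ⊤)ˣ) : Γ(Y.left, ⊤)) * w - w = x := by
  haveI := hY.infinite
  obtain ⟨z, hz⟩ := exists_unit_zpow_ne hY.isField k hk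
  obtain ⟨v, hv⟩ := hY.isField.mul_inv_cancel (sub_ne_zero.2 hz)
  exact ⟨z, v * x, by linear_combination x * hv⟩

/-- The torus, two opposite root groups and an element inverting the coroot give a non-solvable group. -/
theorem false_of_solvable {Y : Over S} (hY : IsACPt Y) (K : ℕ → Subgroup (Y ⟶ G))
    (hK : ∀ k, ⁅K k, K k⁆ ≤ K (k + 1)) {N : ℕ} (hN : K N = ⊥) (a : D.idx)
    (hT : ∀ t : Y ⟶ D.T, t ≫ D.i ∈ K 0) (hU : ∀ x, P (D.u a) x ∈ K 0)
    (hU' : ∀ x, P (D.u (D.P.reflectionPerm a a)) x ∈ K 0)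
    {ω : Y ⟶ G} (hω : ω ∈ rootPair D a (D.P.reflectionPerm a a) Y)
    (hωC : ∀ z : Γ(Y.left, ⊤)ˣ, ω * ((Gm.gmPt z ≫ cochar D (D.P.coroot a).toAddMonoidHom) ≫ D.i) * ω⁻¹ =
      ((Gm.gmPt z ≫ cochar D (D.P.coroot a).toAddMonoidHom) ≫ D.i)⁻¹) : False := by
  haveI := isAffineHom D
  haveI := hY.aff
  haveI := hY.infinite
  set a' := D.P.reflectionPerm a a
  let l := (D.P.coroot a).toAddMonoidHom
  let C : Γ(Y.left, ⊤)ˣ → (Y ⟶ G) := fun z => (Gm.gmPt z ≫ cochar D l) ≫ D.i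
  have hl : l (D.P.root a) = 2 := coroot_root a
  have hl' : l (D.P.root a') = -2 := by rw [root_neg_idx, map_neg, hl]
  have hCP : ∀ (c : D.idx) (z : Γ(Y.left, ⊤)ˣ) (x : Γ(Y.left, ⊤)),
      ⁅C z, P (D.u c) x⁆ = P (D.u c) (((z ^ l (D.P.root c) : Γ(Y.left, ⊤)ˣ) : Γ(Y.left, ⊤)) * x - x) := fun c z x => by
    rw [commutatorElement_def, mul_inv_eq_iff_eq_mul.2 (isRootPts D c (Gm.gmPt z ≫ cochar D l) x), gmFn_cochar,
      sub_eq_add_neg _ x, P_add, P_neg]
  have key : ∀ k, (∀ x, P (D.u a) x ∈ K k) ∧ (∀ x, P (D.u a') x ∈ K k) ∧ ∀ z, C z ∈ K k := by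
    intro k
    induction k with
    | zero => exact ⟨hU, hU', fun z => hT _⟩
    | succ k ih =>
      obtain ⟨hA, hA', hC⟩ := ih
      have hroot : ∀ c, l (D.P.root c) ≠ 0 → (∀ x, P (D.u c) x ∈ K k) → ∀ x, P (D.u c) x ∈ K (k + 1) := by
        intro c hc hPc x
        obtain ⟨z, w, hw⟩ := exists_ne_smul hY hc x
        rw [← hw, ← hCP c z w]
        exact hK k (Subgroup.commutator_mem_commutator (hC z) (hPc w))
      refine ⟨hroot a (by omega) hA, hroot a' (by omega) hA', fun z => ?_⟩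
      have hωk : ω ∈ K k := (Subgroup.closure_le _).2 (by
        rintro g ⟨x, rfl | rfl⟩
        · exact hA x
        · exact hA' x) hω
      obtain ⟨s, hs⟩ := hY.sqrt (z : Γ(Y.left, ⊤))
      have hsu : IsUnit s := isUnit_of_mul_isUnit_left (hs.symm ▸ z.isUnit)
      have hz : hsu.unit * hsu.unit = z := Units.ext hs
      have h1 : ⁅ω, C hsu.unit⁆ = (C z)⁻¹ := by
        rw [commutatorElement_def, hωC hsu.unit]
        change (C hsu.unit)⁻¹ * (C hsu.unit)⁻¹ = (C z)⁻¹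
        rw [← _root_.mul_inv_rev, ← hz]
        refine congrArg _ ?_
        change _ = ((Gm.gmPt (hsu.unit * hsu.unit) ≫ cochar D l) ≫ D.i)
        rw [gmPt_mul, MonObj.mul_comp _ _ (cochar D l), MonObj.mul_comp _ _ D.i]
      have h2 := hK k (Subgroup.commutator_mem_commutator hωk (hC hsu.unit))
      rw [h1] at h2
      exact inv_mem_iff.1 h2
  have h := (key N).1 1
  rw [hN, Subgroup.mem_bot] at h
  have h2 : Ga.gaPt (1 : Γ(Y.left, ⊤)) = Ga.gaPt 0 :=
    (cancel_mono (D.u a)).1 (h.trans (P_zero (D.u a)).symm)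
  have h3 := congrArg Red.gaFn h2
  rw [Ga.gaFn_gaPt, Ga.gaFn_gaPt] at h3
  haveI := hY.isField.nontrivial
  exact one_ne_zero h3

set_option maxHeartbeats 1000000 in
/-- Over a geometric point of any base point, the root pair contains an element inverting the coroot. -/
theorem exists_omega (b : D.P.Base) (a : D.idx) {Y₀ : Over S} [Nontrivial Γ(Y₀.left, ⊤)] :
    ∃ (Y : Over S) (_ : Y ⟶ Y₀) (ω : Y ⟶ G), IsACPt Y ∧ ω ∈ rootPair D a (D.P.reflectionPerm a a) Y ∧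
      ∀ z : Γ(Y.left, ⊤)ˣ, ω * ((Gm.gmPt z ≫ cochar D (D.P.coroot a).toAddMonoidHom) ≫ D.i) * ω⁻¹ =
        ((Gm.gmPt z ≫ cochar D (D.P.coroot a).toAddMonoidHom) ≫ D.i)⁻¹ := by
  classical
  haveI : D.P.IsCrystallographic := ⟨fun i j => ⟨D.P.pairing i j, by simp⟩⟩
  haveI : IsAddTorsionFree D.M := .of_isTorsionFree ℤ D.M
  haveI : IsAddTorsionFree (Module.Dual ℤ D.M) := .of_isTorsionFree ℤ _
  haveI : D.P.IsReduced := Weyl.isReduced_of_base b
  set a' := D.P.reflectionPerm a a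
  obtain ⟨n₀, hn₀⟩ := D.refl a
  obtain ⟨lam, hlam, hlam'⟩ := Weyl.exists_singular_functional D a
  let g : Y₀ ⟶ G := toUnit Y₀ ≫ n₀
  have hact : ∀ (Z : Over S) (f : Z ⟶ Y₀) (t : Z ⟶ D.T), (f ≫ g) * (t ≫ D.i) * (f ≫ g)⁻¹ =
      Weyl.act D (D.P.reflection a).toLinearMap.toAddMonoidHom t ≫ D.i := fun Z f t => by
    have := hn₀ Z t
    simpa [Weyl.act, g] using this
  have hcomm : Commutes (gcochar D lam) g := fun Z f z => by
    have := hact Z f (z ≫ cochar D lam)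
    rw [Weyl.act_cochar, show lam.comp (D.P.reflection a).toLinearMap.toAddMonoidHom = lam from
      AddMonoidHom.ext fun m => by simp [D.P.reflection_apply, hlam], Category.assoc] at this
    exact (mul_inv_eq_iff_eq_mul.1 this).symm
  obtain ⟨X', c, p, p', q, q', t, t', hc, hg⟩ := Weyl.exists_rankOne (D := D) (j := a) (j' := a')
    (root_neg_idx a) hlam hlam' hcomm
  obtain ⟨x⟩ : Nonempty X'.left := by
    by_contra he
    rw [not_nonempty_iff] at he
    haveI := he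
    have h : c ≫ Ga.gaPt (1 : Γ(Y₀.left, ⊤)) = c ≫ Ga.gaPt 0 :=
      Over.OverMorphism.ext ((isInitialOfIsEmpty (X := X'.left)).hom_ext _ _)
    rw [Over.OverMorphism.ext_iff, Over.comp_left, Over.comp_left, cancel_epi] at h
    have h3 := congrArg Red.gaFn (Over.OverMorphism.ext h)
    rw [Ga.gaFn_gaPt, Ga.gaFn_gaPt] at h3
    exact one_ne_zero h3
  let κ := AlgebraicClosure (X'.left.residueField x)
  let j : Spec (CommRingCat.of κ) ⟶ X'.left :=
    Spec.map (CommRingCat.ofHom (algebraMap (X'.left.residueField x) κ)) ≫ X'.left.fromSpecResidueField x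
  let Y : Over S := Over.mk (j ≫ X'.hom)
  let r : Y ⟶ X' := Over.homMk j rfl
  haveI := isAffineHom D
  let T₀ := (r ≫ t') ≫ D.i
  let T₁ := ((r ≫ t) ≫ D.i)⁻¹
  let u' := (r ≫ p') ≫ D.u a'
  let v := ((r ≫ q') ≫ D.u a) * ((r ≫ q) ≫ D.u a)⁻¹
  let u₀ := ((r ≫ p) ≫ D.u a')⁻¹
  have hgY : r ≫ c ≫ g = u' * (T₀ * v * T₁) * u₀ := by
    rw [hg]
    simp only [MonObj.comp_mul, GrpObj.comp_inv, Category.assoc, u', T₀, T₁, v, u₀]
    group
  let τ := T₀ * T₁
  let ω := (τ⁻¹ * u' * τ) * (T₁⁻¹ * v * T₁) * u₀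
  have hω : r ≫ c ≫ g = τ * ω := by rw [hgY]; simp only [τ, ω]; group
  have hmem : ∀ (s : Y ⟶ D.T) (y : Y ⟶ G), y ∈ rootPair D a a' Y →
      (s ≫ D.i) * y * (s ≫ D.i)⁻¹ ∈ rootPair D a a' Y := by
    intro s y hy
    induction hy using Subgroup.closure_induction with
    | mem y hy =>
      obtain ⟨x, rfl | rfl⟩ := hy
      · rw [mul_inv_eq_iff_eq_mul.2 (isRootPts D a s x)]; exact (P_mem_rootPair a a' _).1
      · rw [mul_inv_eq_iff_eq_mul.2 (isRootPts D a' s x)]; exact (P_mem_rootPair a a' _).2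
    | one => simp
    | mul y y' _ _ ihy ihy' =>
      rw [show (s ≫ D.i) * (y * y') * (s ≫ D.i)⁻¹ =
        ((s ≫ D.i) * y * (s ≫ D.i)⁻¹) * ((s ≫ D.i) * y' * (s ≫ D.i)⁻¹) by group]
      exact mul_mem ihy ihy'
    | inv y _ ihy =>
      rw [show (s ≫ D.i) * y⁻¹ * (s ≫ D.i)⁻¹ = ((s ≫ D.i) * y * (s ≫ D.i)⁻¹)⁻¹ by group]
      exact inv_mem ihy
  have hτ : ∃ s : Y ⟶ D.T, s ≫ D.i = τ :=
    ⟨(r ≫ t') * (r ≫ t)⁻¹, by simp only [τ, T₀, T₁, MonObj.mul_comp _ _ D.i, GrpObj.inv_comp]⟩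
  obtain ⟨s, hs⟩ := hτ
  have hPm : ∀ (e : D.idx) (w : Y ⟶ Red.Ga S), (e = a ∨ e = a') → w ≫ D.u e ∈ rootPair D a a' Y := by
    rintro e w (rfl | rfl) <;> rw [P_eq]
    · exact (P_mem_rootPair e a' _).1
    · exact (P_mem_rootPair a _ _).2
  refine ⟨Y, r ≫ c, ω, isACPt_mk κ _, ?_, fun z => ?_⟩
  · refine mul_mem (mul_mem ?_ ?_) (inv_mem (hPm a' _ (Or.inr rfl)))
    · have := hmem s⁻¹ u' (hPm a' _ (Or.inr rfl))
      rwa [GrpObj.inv_comp _ D.i, hs, _root_.inv_inv] at this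
    · have := hmem (r ≫ t) v (mul_mem (hPm a _ (Or.inl rfl)) (inv_mem (hPm a _ (Or.inl rfl))))
      simpa only [T₁, _root_.inv_inv] using this
  · set C := Gm.gmPt z ≫ cochar D (D.P.coroot a).toAddMonoidHom
    have h := hact Y (r ≫ c) C
    rw [Category.assoc r c g, hω, Weyl.act_cochar, show (D.P.coroot a).toAddMonoidHom.comp
      (D.P.reflection a).toLinearMap.toAddMonoidHom = -(D.P.coroot a).toAddMonoidHom from
      AddMonoidHom.ext fun m => by
        have h2 := coroot_root (D := D) a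
        simp [D.P.reflection_apply, RootPairing.coroot', D.pairing_eq] at h2 ⊢
        rw [h2]; ring] at h
    have hneg : Gm.gmPt z ≫ cochar D (-(D.P.coroot a).toAddMonoidHom) = C⁻¹ := by
      refine Weyl.ext_dsFn fun m => ?_
      rw [Weyl.dsFn_cochar, eq_comm]
      haveI : IsMonHom (show D.T ⟶ Red.DS S D.M from D.split.hom.hom.hom) := D.split.hom.hom.isMonHom_hom
      rw [show C⁻¹ ≫ D.split.hom.hom.hom = (C ≫ D.split.hom.hom.hom)⁻¹ from
        GrpObj.inv_comp C (show D.T ⟶ Red.DS S D.M from D.split.hom.hom.hom)]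
      have h5 : Gm.dsFn (C ≫ D.split.hom.hom.hom) m * Gm.dsFn (Gm.gmPt z) (-(D.P.coroot a).toAddMonoidHom m) = 1 := by
        rw [Weyl.dsFn_cochar, ← Gm.dsFn_add, add_neg_cancel, Gm.dsFn_zero]
      have h6 : Gm.dsFn (C ≫ D.split.hom.hom.hom) m * Gm.dsFn ((C ≫ D.split.hom.hom.hom)⁻¹) m = 1 := by
        rw [← Gm.dsFn_mul, mul_inv_cancel, Gm.dsFn_one]
      exact (Gm.isUnit_dsFn (C ≫ D.split.hom.hom.hom) m).mul_left_cancel (h6.trans h5.symm)
    rw [hneg, GrpObj.inv_comp C D.i] at h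
    have hτC : Commute τ (C ≫ D.i) := by
      change τ * (C ≫ D.i) = (C ≫ D.i) * τ
      rw [← hs, ← MonObj.mul_comp _ _ D.i, ← MonObj.mul_comp _ _ D.i, torus_comm D]
    calc ω * (C ≫ D.i) * ω⁻¹ = τ⁻¹ * (τ * ω * (C ≫ D.i) * (τ * ω)⁻¹) * τ := by group
      _ = τ⁻¹ * (C ≫ D.i)⁻¹ * τ := by rw [h]
      _ = (C ≫ D.i)⁻¹ := by
          rw [_root_.mul_assoc, ← hτC.inv_right.eq, inv_mul_cancel_left]

end Groth.Agent.H82.Borel
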