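import Groth.Agent.H82.Borel.Leading
import Groth.Agent.H82.Weyl.Unique

/-!
# A torus-stable group meeting the unipotent part contains a root element
-/

set_option autoImplicit false
set_option linter.style.haveILetI false
set_option linter.unusedSectionVars false
universe u

open CategoryTheory MonoidalCategory CartesianMonoidalCategory MonObj GrpObj AlgebraicGeometry
open Groth.Agent.Lib.RedPts Groth.Agent.H82.BigCell Groth.Agent.H82.Contract
open Groth.Agent.H82.RankOne (P P_eq P_zero P_comp P_add P_neg)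

namespace Groth.Agent.H82.Borel

theorem exists_unit_zpow_ne {R : Type*} [CommRing R] (hR : IsField R) [Infinite R] (k : ℤ) (hk : k ≠ 0) :
    ∃ z : Rˣ, ((z ^ k : Rˣ) : R) ≠ 1 := by
  classical
  letI := hR.toField
  have hp : (Polynomial.X ^ k.natAbs - 1 : Polynomial R) ≠ 0 :=
    Polynomial.X_pow_sub_C_ne_zero (Int.natAbs_pos.2 hk) 1
  obtain ⟨z, hz⟩ := Infinite.exists_notMem_finset ((Polynomial.X ^ k.natAbs - 1 : Polynomial R).roots.toFinset ∪ {0})
  simp only [Finset.mem_union, Multiset.mem_toFinset, Finset.mem_singleton, not_or, Polynomial.mem_roots hp] at hz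
  refine ⟨Units.mk0 z hz.2, fun h => hz.1 ?_⟩
  have h' : (Units.mk0 z hz.2) ^ k = 1 := Units.ext h
  have h2 : (Units.mk0 z hz.2) ^ k.natAbs = 1 := pow_natAbs_eq_one.2 h'
  have h3 := congrArg Units.val h2
  simp only [Units.val_pow_eq_pow_val, Units.val_mk0, Units.val_one] at h3
  simp [h3]

section NegBase

variable {idx M N : Type} [AddCommGroup M] [AddCommGroup N] {P : RootPairing idx ℤ M N}

theorem root_neg_idx (a : idx) : P.root (P.reflectionPerm a a) = -P.root a := by
  rw [P.root_reflectionPerm, P.reflection_apply_self]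

/-- The opposite base. -/
theorem exists_neg_base (b : P.Base) :
    ∃ b' : P.Base, RedSub.posRoots P b' = RedSub.negRoots P b ∧ RedSub.negRoots P b' = RedSub.posRoots P b := by
  classical
  let ng : idx → idx := fun a => P.reflectionPerm a a
  have hr : ∀ a, P.root (ng a) = -P.root a := root_neg_idx
  have hc : ∀ a, P.coroot (ng a) = -P.coroot a := fun a => by
    simp only [ng, P.coroot_reflectionPerm, P.coreflection_apply_self]
  have hinj : Function.Injective ng := fun a c h => P.root.injective (neg_injective (by rw [← hr, ← hr, h]))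
  have himR : P.root '' ((b.support.image ng : Finset idx) : Set idx) = -(P.root '' (b.support : Set idx)) := by
    rw [Finset.coe_image, Set.image_image, ← Set.image_neg_eq_neg, Set.image_image]
    exact Set.image_congr fun a _ => hr a
  have himC : P.coroot '' ((b.support.image ng : Finset idx) : Set idx) = -(P.coroot '' (b.support : Set idx)) := by
    rw [Finset.coe_image, Set.image_image, ← Set.image_neg_eq_neg, Set.image_image]
    exact Set.image_congr fun a _ => hc a
  have hclR : ∀ x : M, x ∈ AddSubmonoid.closure (P.root '' ((b.support.image ng : Finset idx) : Set idx)) ↔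
      -x ∈ AddSubmonoid.closure (P.root '' (b.support : Set idx)) := fun x => by
    rw [himR, AddSubmonoid.closure_neg, AddSubmonoid.mem_neg]
  have hclC : ∀ x : N, x ∈ AddSubmonoid.closure (P.coroot '' ((b.support.image ng : Finset idx) : Set idx)) ↔
      -x ∈ AddSubmonoid.closure (P.coroot '' (b.support : Set idx)) := fun x => by
    rw [himC, AddSubmonoid.closure_neg, AddSubmonoid.mem_neg]
  have hli : ∀ {V : Type} [AddCommGroup V] (f : idx → V), (∀ a, f (ng a) = -f a) →
      LinearIndepOn ℤ f (b.support : Set idx) → LinearIndepOn ℤ f ((b.support.image ng : Finset idx) : Set idx) := by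
    intro V _ f hf h
    rw [Finset.coe_image]
    refine LinearIndepOn.image_of_comp ng f ?_
    rw [show f ∘ ng = fun a => -f a from funext hf]
    exact LinearIndependent.neg h
  refine ⟨{ support := b.support.image ng
            linearIndepOn_root := hli _ hr b.linearIndepOn_root
            linearIndepOn_coroot := hli _ hc b.linearIndepOn_coroot
            root_mem_or_neg_mem := fun a => by rw [hclR, hclR, neg_neg]; exact (b.root_mem_or_neg_mem a).symm
            coroot_mem_or_neg_mem := fun a => by rw [hclC, hclC, neg_neg]; exact (b.coroot_mem_or_neg_mem a).symm },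
    Set.ext fun a => hclR _, Set.ext fun a => (hclR _).trans (by rw [neg_neg]; rfl)⟩

end NegBase

variable {S : Scheme.{u}} {G : Over S} [GrpObj G] {D : Red.SplitRed G}

theorem not_proportional (b : D.P.Base) {l : D.M →+ ℤ} {a c : D.idx} (ha : 0 < l (D.P.root a))
    (hc : 0 < l (D.P.root c)) (hac : a ≠ c) :
    ∃ lam : D.M →+ ℤ, lam (D.P.root a) = 0 ∧ lam (D.P.root c) ≠ 0 := by
  classical
  haveI : D.P.IsCrystallographic := ⟨fun i j => ⟨D.P.pairing i j, by simp⟩⟩
  haveI : IsAddTorsionFree D.M := .of_isTorsionFree ℤ D.M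
  haveI : IsAddTorsionFree (Module.Dual ℤ D.M) := .of_isTorsionFree ℤ _
  haveI : D.P.IsReduced := Weyl.isReduced_of_base b
  have hne : l (D.P.root a) • D.P.root c - l (D.P.root c) • D.P.root a ≠ 0 := fun h => by
    have hdep : ¬LinearIndependent ℤ ![D.P.root c, D.P.root a] := fun hli => by
      have := (LinearIndependent.pair_iff.1 hli (l (D.P.root a)) (-l (D.P.root c))
        (by rw [neg_smul, ← sub_eq_add_neg]; exact h)).1
      omega
    rcases RootPairing.IsReduced.eq_or_eq_neg (P := D.P) c a hdep with h' | h'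
    · exact hac (D.P.root.injective h').symm
    · rw [h', map_neg] at hc; omega
  let B := Module.finBasis ℤ D.M
  obtain ⟨j, hj⟩ : ∃ j, B.coord j (l (D.P.root a) • D.P.root c - l (D.P.root c) • D.P.root a) ≠ 0 := by
    by_contra! h
    exact hne (B.forall_coord_eq_zero_iff.1 h)
  refine ⟨l (D.P.root a) • (B.coord j).toAddMonoidHom - B.coord j (D.P.root a) • l, ?_, fun h => hj ?_⟩
  · simp only [AddMonoidHom.sub_apply, AddMonoidHom.smul_apply, LinearMap.toAddMonoidHom_coe, smul_eq_mul]
    ring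
  · simp only [AddMonoidHom.sub_apply, AddMonoidHom.smul_apply, LinearMap.toAddMonoidHom_coe, smul_eq_mul] at h
    rw [map_sub, map_zsmul, map_zsmul, smul_eq_mul, smul_eq_mul]
    linear_combination h

/-- A torus point separating two positive roots. -/
theorem exists_torus_sep (b : D.P.Base) {l : D.M →+ ℤ} {a c : D.idx} (ha : 0 < l (D.P.root a))
    (hc : 0 < l (D.P.root c)) (hac : a ≠ c) {Y : Over S} (hY : IsField Γ(Y.left, ⊤)) [Infinite Γ(Y.left, ⊤)] :
    ∃ t : Y ⟶ D.T, Red.gmFn (t ≫ chr D (D.P.root a)) = 1 ∧ Red.gmFn (t ≫ chr D (D.P.root c)) ≠ 1 := by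
  obtain ⟨lam, h0, h1⟩ := not_proportional b ha hc hac
  obtain ⟨z, hz⟩ := exists_unit_zpow_ne hY _ h1
  refine ⟨Gm.gmPt z ≫ cochar D lam, ?_, ?_⟩
  · rw [gmFn_cochar, h0, zpow_zero, Units.val_one]
  · rwa [gmFn_cochar]

variable (b : D.P.Base) {l : D.M →+ ℤ} (hlp : ∀ a ∈ RedSub.posRoots D.P b, 0 < l (D.P.root a))
  (hln : ∀ a ∈ RedSub.negRoots D.P b, l (D.P.root a) < 0) {n m : ℕ} {e : Fin n → D.idx} {e' : Fin m → D.idx}
  [IsOpenImmersion (RedSub.cellMap D e e').left]

include hlp hln in
set_option maxHeartbeats 1000000 in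
/-- A group stable under the torus with a non-trivial unipotent point contains a root element. -/
theorem exists_root_mem (he : ∀ k, l (D.P.root (e k)) < 0) (hinj : Function.Injective e')
    (he' : ∀ k, 0 < l (D.P.root (e' k))) {Y : Over S} [IsAffine Y.left] (hY : IsField Γ(Y.left, ⊤))
    [Infinite Γ(Y.left, ⊤)] (hs : Small Y) (H : Subgroup (Y ⟶ G)) (hT : ∀ t : Y ⟶ D.T, t ≫ D.i ∈ H)
    {g : Y ⟶ G} (hgH : g ∈ H) (hg : g ≠ 1) {z : Y ⟶ RedSub.pow (Red.Ga S) m}
    (hz : z ≫ RedSub.prodMap (Red.Ga S) m (fun k => D.u (e' k)) = g) :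
    ∃ (a : D.idx) (x : Γ(Y.left, ⊤)), 0 < l (D.P.root a) ∧ x ≠ 0 ∧ P (D.u a) x ∈ H := by
  classical
  haveI := isAffineHom D
  haveI := mono_of_isClosedImmersion _ (mono_prodMap_pos hinj he')
  haveI := hY.isDomain
  let d : Fin m → ℕ := fun k => (l (D.P.root (e' k))).toNat
  let W := ∑ k, d k
  let el : (Fin m → Γ(Y.left, ⊤)) → (Y ⟶ G) := fun x => prodPts m fun k => P (D.u (e' k)) (x k)
  have hcoord : ∀ g' : Y ⟶ G, IsLimPt (gcochar D l) g' 1 → ∃ x, el x = g' := fun g' hg' => by
    obtain ⟨w, hw⟩ := exists_prod_of_isLimPt he he' hg'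
    refine ⟨fun k => Red.gaFn (w ≫ proj m k), ?_⟩
    rw [← hw, comp_prodMap]
    exact congrArg _ (funext fun k => (P_eq (D.u (e' k)) _).symm.trans (Category.assoc _ _ _))
  suffices key : ∀ (q h r : ℕ) (x : Fin m → Γ(Y.left, ⊤)), W + 1 - h = q → el x ∈ H → el x ≠ 1 →
      (∀ k, d k < h → x k = 0) → (Finset.univ.filter fun k => d k = h ∧ x k ≠ 0).card = r →
      ∃ (a : D.idx) (x : Γ(Y.left, ⊤)), 0 < l (D.P.root a) ∧ x ≠ 0 ∧ P (D.u a) x ∈ H by
    obtain ⟨x, hx⟩ := hcoord g (hz ▸ isLimPt_pos he' z)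
    exact key _ 0 _ x rfl (hx.symm ▸ hgH) (hx.symm ▸ hg) (fun k hk => absurd hk (Nat.not_lt_zero _)) rfl
  intro q
  induction q using Nat.strong_induction_on with
  | _ q IHq =>
  intro h r
  induction r using Nat.strong_induction_on with
  | _ r IHr =>
  intro x hq hxH hne hlow hr
  have hhW : h ≤ W := by
    by_contra hlt
    refine hne (prodPts_one fun k => ?_)
    have : d k ≤ W := Finset.single_le_sum (fun k _ => Nat.zero_le (d k)) (Finset.mem_univ k)
    rw [hlow k (by omega), P_zero]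
  -- commutators with the torus
  have step : ∀ t : Y ⟶ D.T, ∃ w, el w ∈ H ∧ el w = (t ≫ D.i) * el x * (t ≫ D.i)⁻¹ * (el x)⁻¹ ∧
      ∀ k, d k ≤ h → w k = (Red.gmFn (t ≫ chr D (D.P.root (e' k))) - 1) * x k := by
    intro t
    have hlim : IsLimPt (gcochar D l) ((t ≫ D.i) * el x * (t ≫ D.i)⁻¹ * (el x)⁻¹) 1 := by
      have hx1 : IsLimPt (gcochar D l) (el x) 1 := isLimPt_prodPts fun k => by
        have := isLimPt_pos (l := l) (e := fun _ : Fin 1 => e' k) (fun _ => he' k) (tuple 1 fun _ => Ga.gaPt (x k))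
        rw [comp_prodMap, prodPts_succ, show prodPts 0 _ = (1 : Y ⟶ G) from rfl, _root_.mul_one,
          ← Category.assoc, tuple_proj] at this
        exact this
      have := (((isLimPt_torus_pt (l := l) t).mul hx1).mul (isLimPt_torus_pt (l := l) t).inv).mul hx1.inv
      rwa [_root_.mul_one, mul_inv_cancel, inv_one, _root_.one_mul] at this
    obtain ⟨w, hw⟩ := hcoord _ hlim
    exact ⟨w, hw ▸ mul_mem (mul_mem (mul_mem (hT t) hxH) (inv_mem (hT t))) (inv_mem hxH), hw,
      leading_coord b hlp hln hinj he' hs t hlow hw⟩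
  let F := Finset.univ.filter fun k => d k = h ∧ x k ≠ 0
  have hF : ∀ k, k ∈ F ↔ d k = h ∧ x k ≠ 0 := fun k => by simp [F]
  rcases F.eq_empty_or_nonempty with hF0 | ⟨k₀, hk₀⟩
  · refine IHq (W + 1 - (h + 1)) (by omega) (h + 1) _ x rfl hxH hne (fun k hk => ?_) rfl
    rcases Nat.lt_succ_iff_lt_or_eq.1 hk with hlt | heq
    · exact hlow k hlt
    · by_contra hxk
      exact Finset.eq_empty_iff_forall_notMem.1 hF0 k ((hF k).2 ⟨heq, hxk⟩)
  obtain ⟨hdk₀, hxk₀⟩ := (hF k₀).1 hk₀
  by_cases h2 : ∃ k₁ ∈ F, k₁ ≠ k₀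
  · obtain ⟨k₁, hk₁, hne₁⟩ := h2
    obtain ⟨t, ht1, ht0⟩ := exists_torus_sep b (he' k₁) (he' k₀) (hinj.ne hne₁) hY
    obtain ⟨w, hwH, -, hwk⟩ := step t
    have hw0 : w k₀ ≠ 0 := by
      rw [hwk k₀ hdk₀.le]
      exact mul_ne_zero (sub_ne_zero.2 ht0) hxk₀
    have hne' : el w ≠ 1 := fun he1 => hw0 (congrFun (Weyl.uniq_coords (d := e') w 0
      (he1.trans (prodPts_one fun k => P_zero _).symm)) k₀)
    refine IHr _ ?_ w hq hwH hne' (fun k hk => ?_) rfl
    · rw [← hr]
      refine Finset.card_lt_card ⟨fun k hk => ?_, fun hsub => ?_⟩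
      · simp only [Finset.mem_filter, Finset.mem_univ, true_and] at hk ⊢
        refine ⟨hk.1, fun hxk => hk.2 ?_⟩
        rw [hwk k hk.1.le, hxk, mul_zero]
      · have := hsub hk₁
        simp only [Finset.mem_filter, Finset.mem_univ, true_and] at this
        refine this.2 ?_
        rw [hwk k₁ this.1.le, ht1, sub_self, zero_mul]
    · rw [hwk k hk.le, hlow k hk, mul_zero]
  · push Not at h2
    by_cases h3 : ∃ c, c ≠ k₀ ∧ x c ≠ 0
    · obtain ⟨c, hc, hxc⟩ := h3
      obtain ⟨t, ht0, htc⟩ := exists_torus_sep b (he' k₀) (he' c) (hinj.ne hc.symm) hY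
      obtain ⟨w, hwH, hw, hwk⟩ := step t
      have hne' : el w ≠ 1 := fun he1 => by
        rw [he1, eq_mul_inv_iff_mul_eq, _root_.one_mul] at hw
        have hconj : (t ≫ D.i) * el x * (t ≫ D.i)⁻¹ =
            prodPts m fun k => P (D.u (e' k)) (Red.gmFn (t ≫ chr D (D.P.root (e' k))) * x k) :=
          mul_inv_eq_iff_eq_mul.2 (mul_prodPts _ fun k => isRootPts D (e' k) t (x k))
        have h4 := congrFun (Weyl.uniq_coords (d := e') _ _ (hconj.symm.trans hw.symm)) c
        exact mul_ne_zero (sub_ne_zero.2 htc) hxc (by linear_combination h4)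
      refine IHq (W + 1 - (h + 1)) (by omega) (h + 1) _ w rfl hwH hne' (fun k hk => ?_) rfl
      rw [hwk k (Nat.lt_succ_iff.1 hk)]
      rcases Nat.lt_succ_iff_lt_or_eq.1 hk with hlt | heq
      · rw [hlow k hlt, mul_zero]
      · by_cases hk0 : k = k₀
        · rw [hk0, ht0, sub_self, zero_mul]
        · by_cases hxk : x k = 0
          · rw [hxk, mul_zero]
          · exact absurd (h2 k ((hF k).2 ⟨heq, hxk⟩)) hk0
    · push Not at h3
      refine ⟨e' k₀, x k₀, he' k₀, hxk₀, ?_⟩
      have : el x = P (D.u (e' k₀)) (x k₀) :=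
        Weyl.prodPts_single k₀ fun k hk => by rw [h3 k hk, P_zero]
      exact this ▸ hxH

end Groth.Agent.H82.Borel
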