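import Groth.Agent.H82.Borel.Points
import Groth.Agent.H82.Weyl.CommFormula
import Mathlib.GroupTheory.Solvable

/-!
# Torus times positive root groups is solvable
-/

set_option autoImplicit false
set_option linter.style.haveILetI false
set_option linter.unusedSectionVars false
universe u

open CategoryTheory MonoidalCategory CartesianMonoidalCategory MonObj GrpObj AlgebraicGeometry
open Groth.Agent.Lib.RedPts Groth.Agent.H82.BigCell Groth.Agent.H82.Contract
open Groth.Agent.H82.RankOne (P P_eq P_zero P_comp P_add P_neg)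
open scoped commutatorElement

namespace Groth.Agent.H82.Borel

section GroupLemmas

variable {Γ : Type*} [Group Γ]

theorem commutator_mul_right_mem {N : Subgroup Γ} {g y y' : Γ} (h : ⁅g, y⁆ ∈ N) (h' : ⁅g, y'⁆ ∈ N)
    (hy : ∀ x ∈ N, y * x * y⁻¹ ∈ N) : ⁅g, y * y'⁆ ∈ N := by
  have e : ⁅g, y * y'⁆ = ⁅g, y⁆ * (y * ⁅g, y'⁆ * y⁻¹) := by simp only [commutatorElement_def]; group
  rw [e]
  exact N.mul_mem h (hy _ h')

theorem commutator_closure_mem {s : Set Γ} {N : Subgroup Γ}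
    (hnorm : ∀ y ∈ Subgroup.closure s, ∀ x ∈ N, y * x * y⁻¹ ∈ N) {g : Γ} (h : ∀ y ∈ s, ⁅g, y⁆ ∈ N)
    {y : Γ} (hy : y ∈ Subgroup.closure s) : ⁅g, y⁆ ∈ N := by
  induction hy using Subgroup.closure_induction with
  | mem x hx => exact h x hx
  | one => simp [commutatorElement_def]
  | mul a b ha hb iha ihb => exact commutator_mul_right_mem iha ihb (hnorm a ha)
  | inv a ha iha =>
    have e : ⁅g, a⁻¹⁆ = a⁻¹ * ⁅g, a⁆⁻¹ * a⁻¹⁻¹ := by simp only [commutatorElement_def]; group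
    rw [e]
    exact hnorm _ (inv_mem ha) _ (inv_mem iha)

theorem commutator_closure_closure_mem {s t : Set Γ} {N : Subgroup Γ}
    (hs : ∀ y ∈ Subgroup.closure s, ∀ x ∈ N, y * x * y⁻¹ ∈ N)
    (ht : ∀ y ∈ Subgroup.closure t, ∀ x ∈ N, y * x * y⁻¹ ∈ N)
    (h : ∀ x ∈ s, ∀ y ∈ t, ⁅x, y⁆ ∈ N) {x y : Γ} (hx : x ∈ Subgroup.closure s) (hy : y ∈ Subgroup.closure t) :
    ⁅x, y⁆ ∈ N := by
  have h1 : ∀ z ∈ s, ⁅y, z⁆ ∈ N := fun z hz => by
    rw [← commutatorElement_inv]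
    exact inv_mem (commutator_closure_mem ht (h z hz) hy)
  rw [← commutatorElement_inv]
  exact inv_mem (commutator_closure_mem hs h1 hx)

theorem conj_closure_mem {s : Set Γ} {N : Subgroup Γ} (h : ∀ x ∈ s, ∀ g ∈ N, x * g * x⁻¹ ∈ N)
    (h' : ∀ x ∈ s, ∀ g ∈ N, x⁻¹ * g * x ∈ N) : ∀ y ∈ Subgroup.closure s, ∀ g ∈ N, y * g * y⁻¹ ∈ N := by
  intro y hy
  induction hy using Subgroup.closure_induction'' with
  | mem x hx => exact h x hx
  | inv_mem x hx => intro g hg; rw [_root_.inv_inv]; exact h' x hx g hg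
  | one => intro g hg; simpa using hg
  | mul a b _ _ iha ihb =>
    intro g hg
    rw [show a * b * g * (a * b)⁻¹ = a * (b * g * b⁻¹) * a⁻¹ by group]
    exact iha _ (ihb g hg)

end GroupLemmas

variable {S : Scheme.{u}} {G : Over S} [GrpObj G] {D : Red.SplitRed G}

/-- The root elements of height at least `k`. -/
def gens (l : D.M →+ ℤ) (X : Over S) (k : ℤ) : Set (X ⟶ G) :=
  {g | ∃ (a : D.idx) (x : Γ(X.left, ⊤)), k ≤ l (D.P.root a) ∧ g = P (D.u a) x}

/-- The group they generate. -/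
noncomputable def filt (l : D.M →+ ℤ) (X : Over S) (k : ℤ) : Subgroup (X ⟶ G) := Subgroup.closure (gens l X k)

theorem filt_anti (l : D.M →+ ℤ) (X : Over S) {k k' : ℤ} (h : k ≤ k') : filt (D := D) l X k' ≤ filt l X k :=
  Subgroup.closure_mono fun _ ⟨a, x, ha, hg⟩ => ⟨a, x, h.trans ha, hg⟩

variable (b : D.P.Base) {l : D.M →+ ℤ} (hlp : ∀ a ∈ RedSub.posRoots D.P b, 0 < l (D.P.root a))
  (hln : ∀ a ∈ RedSub.negRoots D.P b, l (D.P.root a) < 0)

include hln in
theorem mem_pos_of_pos {a : D.idx} (h : 0 < l (D.P.root a)) : a ∈ RedSub.posRoots D.P b :=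
  (b.root_mem_or_neg_mem a).elim id fun h' => absurd (hln a h') (not_lt.2 h.le)

include hln in
theorem commutator_gen {X : Over S} (a c : D.idx) (ha : 0 < l (D.P.root a)) (hc : 0 < l (D.P.root c))
    (x y : Γ(X.left, ⊤)) :
    ⁅P (D.u c) y, P (D.u a) x⁆ ∈ filt l X (l (D.P.root a) + l (D.P.root c)) := by
  classical
  rcases eq_or_ne a c with rfl | hac
  · have : ⁅P (D.u a) y, P (D.u a) x⁆ = 1 := by
      rw [commutatorElement_eq_one_iff_mul_comm, ← P_add, ← P_add, add_comm]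
    rw [this]; exact one_mem _
  let R : Set D.idx := {d | ∃ p q : ℕ, 1 ≤ p ∧ 1 ≤ q ∧
    D.P.root d = (p : ℤ) • D.P.root a + (q : ℤ) • D.P.root c}
  obtain ⟨n, e, he⟩ := exists_enum R
  have hmem : ∀ k, e k ∈ R := fun k => he.2 ▸ Set.mem_range_self k
  choose i j hi hj hij using hmem
  obtain ⟨C, hC, -⟩ := Weyl.commutator_formula b a c (mem_pos_of_pos b hln ha) (mem_pos_of_pos b hln hc) e i j he.1
    (fun k => ⟨hi k, hj k, hij k⟩) (fun d p q hp hq h => he.2 ▸ ⟨p, q, hp, hq, h⟩)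
  let z : Fin n → (X ⟶ Red.Ga S) := fun k =>
    Ga.gaPt (X.hom.appTop (C k) * Red.gaFn (Ga.gaPt x) ^ i k * Red.gaFn (Ga.gaPt (-y)) ^ j k)
  have h := hC X (Ga.gaPt x) (Ga.gaPt (-y)) z fun k => by simp [z, Ga.gaFn_gaPt]
  have e1 : ⁅P (D.u c) y, P (D.u a) x⁆ = (List.ofFn fun k => z k ≫ D.u (e k)).prod := by
    rw [← inv_mul_eq_iff_eq_mul] at h
    rw [← h, commutatorElement_def, show (Ga.gaPt (-y) ≫ D.u c) = P (D.u c) (-y) from rfl, P_neg,
      _root_.inv_inv, show (Ga.gaPt x ≫ D.u a) = P (D.u a) x from rfl]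
    group
  rw [e1]
  refine list_prod_mem fun g hg => ?_
  obtain ⟨k, rfl⟩ := List.mem_ofFn.1 hg
  refine Subgroup.subset_closure ⟨e k, _, ?_, P_eq (D.u (e k)) (z k)⟩
  rw [hij k, map_add, map_zsmul, map_zsmul, smul_eq_mul, smul_eq_mul]
  have h1 : (1 : ℤ) ≤ i k := by exact_mod_cast hi k
  have h2 : (1 : ℤ) ≤ j k := by exact_mod_cast hj k
  nlinarith

include hln in
theorem commutator_gens {X : Over S} {j k : ℤ} (hj : 1 ≤ j) (hk : 1 ≤ k) {g g' : X ⟶ G}
    (hg : g ∈ gens (D := D) l X j) (hg' : g' ∈ gens (D := D) l X k) : ⁅g, g'⁆ ∈ filt (D := D) l X (j + k) := by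
  obtain ⟨a, x, ha, rfl⟩ := hg
  obtain ⟨c, y, hc, rfl⟩ := hg'
  exact filt_anti l X (by omega) (commutator_gen b hln c a (by omega) (by omega) y x)

include hln in
theorem conj_filt {X : Over S} {k : ℤ} (hk : 1 ≤ k) :
    ∀ y ∈ filt (D := D) l X 1, ∀ g ∈ filt (D := D) l X k, y * g * y⁻¹ ∈ filt (D := D) l X k := by
  have h : ∀ x ∈ gens (D := D) l X 1, ∀ g ∈ filt (D := D) l X k, x * g * x⁻¹ ∈ filt (D := D) l X k := by
    intro x hx g hg
    induction hg using Subgroup.closure_induction with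
    | mem g hg =>
      rw [show x * g * x⁻¹ = ⁅x, g⁆ * g by rw [commutatorElement_def]; group]
      exact mul_mem (filt_anti l X (by omega) (commutator_gens b hln le_rfl hk hx hg)) (Subgroup.subset_closure hg)
    | one => simp
    | mul g g' _ _ ihg ihg' =>
      rw [show x * (g * g') * x⁻¹ = (x * g * x⁻¹) * (x * g' * x⁻¹) by group]
      exact mul_mem ihg ihg'
    | inv g _ ihg =>
      rw [show x * g⁻¹ * x⁻¹ = (x * g * x⁻¹)⁻¹ by group]
      exact inv_mem ihg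
  refine conj_closure_mem h fun x hx g hg => ?_
  obtain ⟨a, r, ha, rfl⟩ := hx
  have := h _ ⟨a, -r, ha, rfl⟩ g hg
  rwa [P_neg, _root_.inv_inv] at this

include hln in
theorem commutator_filt {X : Over S} {j k : ℤ} (hj : 1 ≤ j) (hk : 1 ≤ k) :
    ⁅filt (D := D) l X j, filt (D := D) l X k⁆ ≤ filt (D := D) l X (j + k) := by
  refine Subgroup.commutator_le.2 fun x hx y hy => ?_
  exact commutator_closure_closure_mem
    (fun y hy => conj_filt b hln (by omega) y (filt_anti l X hj hy))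
    (fun y hy => conj_filt b hln (by omega) y (filt_anti l X hk hy))
    (fun x hx y hy => commutator_gens b hln hj hk hx hy) hx hy

theorem filt_eq_bot {X : Over S} {k : ℤ} (hk : ∀ a, l (D.P.root a) < k) : filt (D := D) l X k = ⊥ := by
  refine le_bot_iff.1 ((Subgroup.closure_le _).2 ?_)
  rintro g ⟨a, x, ha, -⟩
  exact absurd (hk a) (not_lt.2 ha)

theorem torus_conj_filt {X : Over S} (t : X ⟶ D.T) {k : ℤ} :
    ∀ g ∈ filt (D := D) l X k, (t ≫ D.i) * g * (t ≫ D.i)⁻¹ ∈ filt (D := D) l X k := by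
  intro g hg
  induction hg using Subgroup.closure_induction with
  | mem g hg =>
    obtain ⟨a, x, ha, rfl⟩ := hg
    refine Subgroup.subset_closure ⟨a, Red.gmFn (t ≫ chr D (D.P.root a)) * x, ha, ?_⟩
    exact mul_inv_eq_iff_eq_mul.2 (isRootPts D a t x)
  | one => simp
  | mul g g' _ _ ihg ihg' =>
    rw [show (t ≫ D.i) * (g * g') * (t ≫ D.i)⁻¹ =
      ((t ≫ D.i) * g * (t ≫ D.i)⁻¹) * ((t ≫ D.i) * g' * (t ≫ D.i)⁻¹) by group]
    exact mul_mem ihg ihg'
  | inv g _ ihg =>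
    rw [show (t ≫ D.i) * g⁻¹ * (t ≫ D.i)⁻¹ = ((t ≫ D.i) * g * (t ≫ D.i)⁻¹)⁻¹ by group]
    exact inv_mem ihg

variable {m : ℕ} {e' : Fin m → D.idx}

theorem exists_mem_filt (he' : ∀ k, 0 < l (D.P.root (e' k))) {X : Over S}
    (z : X ⟶ D.T ⊗ RedSub.pow (Red.Ga S) m) :
    ∃ (t : X ⟶ D.T) (v : X ⟶ G), v ∈ filt (D := D) l X 1 ∧ z ≫ RedSub.borelMap D e' = (t ≫ D.i) * v := by
  refine ⟨z ≫ fst _ _, _, ?_, comp_borelMap z⟩
  rw [comp_prodMap]
  have : ∀ (k : ℕ) (d : Fin k → D.idx) (w : X ⟶ RedSub.pow (Red.Ga S) k), (∀ i, 0 < l (D.P.root (d i))) →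
      prodPts k (fun i => w ≫ proj k i ≫ D.u (d i)) ∈ filt (D := D) l X 1 := by
    intro k d w hd
    suffices ∀ (k : ℕ) (g : Fin k → (X ⟶ G)), (∀ i, g i ∈ filt (D := D) l X 1) → prodPts k g ∈ filt (D := D) l X 1 by
      refine this _ _ fun i => Subgroup.subset_closure ⟨d i, Red.gaFn (w ≫ proj k i), by have := hd i; omega, ?_⟩
      rw [← Category.assoc, P_eq]
    intro k
    induction k with
    | zero => intro g _; exact one_mem _
    | succ k ih => intro g hg; rw [prodPts_succ]; exact mul_mem (hg 0) (ih _ fun i => hg i.succ)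
  exact this m e' _ he'

include hln in
/-- Commutators of points of the Borel subgroup lie in the unipotent part. -/
theorem commutator_borel (he' : ∀ k, 0 < l (D.P.root (e' k))) {X : Over S}
    (z z' : X ⟶ D.T ⊗ RedSub.pow (Red.Ga S) m) :
    ⁅z ≫ RedSub.borelMap D e', z' ≫ RedSub.borelMap D e'⁆ ∈ filt (D := D) l X 1 := by
  obtain ⟨t, v, hv, h⟩ := exists_mem_filt he' z
  obtain ⟨t', v', hv', h'⟩ := exists_mem_filt he' z'
  rw [h, h', commutatorElement_def]
  set T := t ≫ D.i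
  set T' := t' ≫ D.i
  have hcomm : T * T' = T' * T := by rw [← MonObj.mul_comp, ← MonObj.mul_comp, torus_comm D]
  have h1 : ∀ g ∈ filt (D := D) l X 1, T * g * T⁻¹ ∈ filt (D := D) l X 1 := torus_conj_filt t
  have h1' : ∀ g ∈ filt (D := D) l X 1, T' * g * T'⁻¹ ∈ filt (D := D) l X 1 := torus_conj_filt t'
  have e : T * v * (T' * v') * (T * v)⁻¹ * (T' * v')⁻¹ =
      (T * v * T⁻¹) * (T * (T' * (v' * v⁻¹) * T'⁻¹) * T⁻¹) * (T * T' * T⁻¹ * T'⁻¹) * (T' * v'⁻¹ * T'⁻¹) := by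
    group
  rw [e, show T * T' * T⁻¹ * T'⁻¹ = 1 by rw [hcomm]; group, _root_.mul_one]
  exact mul_mem (mul_mem (h1 v hv) (h1 _ (h1' _ (mul_mem hv' (inv_mem hv))))) (h1' _ (inv_mem hv'))

include hln in
/-- The derived series of the points of the Borel subgroup stops uniformly. -/
theorem exists_solvable (he' : ∀ k, 0 < l (D.P.root (e' k))) [GrpObj (D.T ⊗ RedSub.pow (Red.Ga S) m)]
    [IsMonHom (RedSub.borelMap D e')] [Mono (RedSub.borelMap D e')] :
    ∃ n : ℕ, ∀ X : Over S, derivedSeries (X ⟶ D.T ⊗ RedSub.pow (Red.Ga S) m) n = ⊥ := by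
  classical
  obtain ⟨N, hN⟩ : ∃ N : ℕ, ∀ a, l (D.P.root a) < N + 1 := by
    refine ⟨∑ a, (l (D.P.root a)).toNat, fun a => ?_⟩
    have := Finset.single_le_sum (fun a _ => Nat.zero_le ((l (D.P.root a)).toNat)) (Finset.mem_univ a)
    omega
  refine ⟨N + 1, fun X => ?_⟩
  let φ : (X ⟶ D.T ⊗ RedSub.pow (Red.Ga S) m) →* (X ⟶ G) :=
    MonoidHom.mk' (· ≫ RedSub.borelMap D e') fun a c => MonObj.mul_comp a c _
  have key : ∀ n : ℕ, ∀ a ∈ derivedSeries (X ⟶ D.T ⊗ RedSub.pow (Red.Ga S) m) (n + 1),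
      φ a ∈ filt (D := D) l X ((n : ℤ) + 1) := by
    intro n
    induction n with
    | zero =>
      intro a ha
      rw [derivedSeries_succ, derivedSeries_zero] at ha
      have : ⁅(⊤ : Subgroup (X ⟶ D.T ⊗ RedSub.pow (Red.Ga S) m)), ⊤⁆ ≤ (filt (D := D) l X ((0 : ℕ) + 1)).comap φ := by
        refine Subgroup.commutator_le.2 fun x _ y _ => ?_
        rw [Subgroup.mem_comap, map_commutatorElement]
        exact commutator_borel b hln he' x y
      exact this ha
    | succ n ih =>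
      intro a ha
      rw [derivedSeries_succ] at ha
      have : ⁅derivedSeries (X ⟶ D.T ⊗ RedSub.pow (Red.Ga S) m) (n + 1),
          derivedSeries (X ⟶ D.T ⊗ RedSub.pow (Red.Ga S) m) (n + 1)⁆ ≤
          (filt (D := D) l X (((n + 1 : ℕ) : ℤ) + 1)).comap φ := by
        refine Subgroup.commutator_le.2 fun x hx y hy => ?_
        rw [Subgroup.mem_comap, map_commutatorElement]
        exact filt_anti l X (by push_cast; omega) (commutator_filt b hln (by omega) (by omega)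
          (Subgroup.commutator_mem_commutator (ih x hx) (ih y hy)))
      exact this ha
  refine le_bot_iff.1 fun a ha => ?_
  have h := key N a ha
  rw [filt_eq_bot (fun c => hN c), Subgroup.mem_bot] at h
  exact Subgroup.mem_bot.2 ((cancel_mono (RedSub.borelMap D e')).1 (h.trans (MonObj.one_comp _).symm))

end Groth.Agent.H82.Borel
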